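import Mathlib
import Groth.Prelude.Def_CohDer
import Groth.Agent.Lib.Helper2.DCoprod
import Groth.Agent.Lib.Helper2.CompactEnv
import Groth.Agent.Lib.Helper2.KInj.SingleProj

/-!
# `R` is a compact generator of `D(Mod R)` (helper2)
-/

set_option autoImplicit false
universe v
open CategoryTheory Limits HomologicalComplex ZeroObject

namespace Groth.Agent.Lib.Helper2.ModCompact

open CompactEnv

variable {R : Type v} [Ring R]

section IsFinRing

/-- the morphism `R ⟶ N` attached to an element -/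
def ofElt {N : ModuleCat.{v} R} (x : N) : ModuleCat.of R R ⟶ N :=
  ModuleCat.ofHom (LinearMap.toSpanSingleton R N x)

@[simp] lemma ofElt_apply {N : ModuleCat.{v} R} (x : N) (r : R) : (ofElt x).hom r = r • x := rfl

lemma eq_ofElt {N : ModuleCat.{v} R} (f : ModuleCat.of R R ⟶ N) :
    f = ofElt (f.hom (1 : R)) := by
  ext
  exact (one_smul R _).symm

lemma ofElt_comp {N N' : ModuleCat.{v} R} (x : N) (g : N ⟶ N') :
    ofElt x ≫ g = ofElt (g.hom x) := by
  ext
  change g.hom ((1 : R) • x) = (1 : R) • g.hom x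
  rw [one_smul, one_smul]

lemma ofElt_add {N : ModuleCat.{v} R} (x y : N) : ofElt (x + y) = ofElt x + ofElt y := by
  ext
  change (1 : R) • (x + y) = (1 : R) • x + (1 : R) • y
  rw [smul_add]

lemma ofElt_zero {N : ModuleCat.{v} R} : ofElt (0 : N) = 0 := by
  ext
  change (1 : R) • (0 : N) = 0
  rw [smul_zero]

variable {κ : Type v} (M : κ → ModuleCat.{v} R)

open Classical in
lemma isFin_ofElt (x : DirectSum κ (fun i => M i)) :
    IsFin M (ofElt (N := ModuleCat.of R (DirectSum κ (fun i => M i))) x ≫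
      (ModuleCat.coprodIsoDirectSum M).inv) := by
  induction x using DirectSum.induction_on with
  | zero => rw [ofElt_zero, zero_comp]; exact zero_mem _
  | of i y =>
    have : ofElt (N := ModuleCat.of R (DirectSum κ (fun i => M i)))
        (DirectSum.of (fun i => M i) i y) =
        ofElt y ≫ ModuleCat.ofHom (DirectSum.lof R κ (fun i => M i) i) := by
      rw [ofElt_comp]
      rfl
    rw [this, Category.assoc, ModuleCat.lof_coprodIsoDirectSum_inv]
    exact isFin_comp_ι i _
  | add x y hx hy =>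
    rw [ofElt_add, Preadditive.add_comp]
    exact hx.add hy

lemma isFin_of_ring (f : ModuleCat.of R R ⟶ ∐ M) : IsFin M f := by
  classical
  have h : f = (f ≫ (ModuleCat.coprodIsoDirectSum M).hom) ≫
      (ModuleCat.coprodIsoDirectSum M).inv := by simp
  rw [h, eq_ofElt (f ≫ (ModuleCat.coprodIsoDirectSum M).hom)]
  exact isFin_ofElt M _

end IsFinRing

section Cmp

variable {κ : Type v} (L : κ → CochainComplex (ModuleCat.{v} R) ℤ)

lemma sum_f {K K' : CochainComplex (ModuleCat.{v} R) ℤ} {α : Type*} (F : Finset α)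
    (φ : α → (K ⟶ K')) (m : ℤ) : (∑ k ∈ F, φ k).f m = ∑ k ∈ F, (φ k).f m :=
  map_sum (Hom.fAddMonoidHom m) _ _

lemma cmp_sigmaπ (k : κ) (m : ℤ) :
    DCoprod.cmp L m ≫ (sigmaπ L k).f m = sigmaπ (fun j => (L j).X m) k := by
  apply Sigma.hom_ext
  intro i
  rw [DCoprod.ι_cmp_assoc, ← comp_f]
  by_cases h : i = k
  · subst h
    rw [ι_sigmaπ_self, ι_sigmaπ_self, id_f]
  · rw [ι_sigmaπ_of_ne _ h, ι_sigmaπ_of_ne _ h, zero_f]

lemma cmp_compl (F : Finset κ) (m : ℤ) :
    DCoprod.cmp L m ≫ (CompactEnv.compl L F).f m = CompactEnv.compl (fun j => (L j).X m) F ≫ DCoprod.cmp L m := by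
  unfold CompactEnv.compl
  rw [sub_f_apply, id_f, sum_f, Preadditive.comp_sub, Preadditive.sub_comp, Category.comp_id,
    Category.id_comp, Preadditive.comp_sum, Preadditive.sum_comp]
  congr 1
  refine Finset.sum_congr rfl (fun k _ => ?_)
  rw [comp_f, ← Category.assoc, cmp_sigmaπ, Category.assoc, DCoprod.ι_cmp]

end Cmp

section Derived

variable (R) [HasDerivedCategory.{v} (ModuleCat.{v} R)]

open DerivedCategory

instance hasCoproducts : HasCoproducts.{v} (DerivedCategory (ModuleCat.{v} R)) :=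
  fun _ => inferInstance

/-- the generator `R[0]` of `D(Mod R)` -/
noncomputable abbrev gen : DerivedCategory (ModuleCat.{v} R) :=
  Q.obj ((single (ModuleCat.{v} R) (ComplexShape.up ℤ) 0).obj (ModuleCat.of R R))

variable {R}

theorem isFin_gen {κ : Type v} (X : κ → DerivedCategory (ModuleCat.{v} R)) (φ : gen R ⟶ ∐ X) :
    IsFin X φ := by
  classical
  let L : κ → CochainComplex (ModuleCat.{v} R) ℤ := fun k => Q.objPreimage (X k)
  let e : ∀ k, Q.obj (L k) ≅ X k := fun k => Q.objObjPreimageIso (X k)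
  have hc := DCoprod.isColimitCofanQ L
  let θ : ∐ X ⟶ Q.obj (∐ L) := Sigma.desc (fun k => (e k).inv ≫ Q.map (Sigma.ι L k))
  let θ' : Q.obj (∐ L) ⟶ ∐ X := Cofan.IsColimit.desc hc (fun k => (e k).hom ≫ Sigma.ι X k)
  have hθ' : ∀ k, Q.map (Sigma.ι L k) ≫ θ' = (e k).hom ≫ Sigma.ι X k :=
    fun k => Cofan.IsColimit.fac hc _ k
  have hθ : θ ≫ θ' = 𝟙 _ := by
    apply Sigma.hom_ext
    intro k
    rw [Sigma.ι_desc_assoc, Category.assoc, hθ', Iso.inv_hom_id_assoc, Category.comp_id]
  obtain ⟨z, hz, hφ⟩ := KInj.exists_cocycle_of_single (∐ L) (φ ≫ θ)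
  obtain ⟨F, hF⟩ := (isFin_of_ring (fun k => (L k).X 0) (z ≫ inv (DCoprod.cmp L 0))).exists_finset
  have hzF : z ≫ (CompactEnv.compl L F).f 0 = 0 := by
    have h1 := cmp_compl L F 0
    calc z ≫ (CompactEnv.compl L F).f 0
        = (z ≫ inv (DCoprod.cmp L 0)) ≫ DCoprod.cmp L 0 ≫ (CompactEnv.compl L F).f 0 := by simp
      _ = ((z ≫ inv (DCoprod.cmp L 0)) ≫ CompactEnv.compl (fun j => (L j).X 0) F) ≫ DCoprod.cmp L 0 := by
        rw [h1]
        simp only [Category.assoc]
      _ = 0 := by rw [hF, zero_comp]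
  have hψ : mkHomFromSingle z hz ≫ CompactEnv.compl L F = 0 := by
    apply from_single_hom_ext
    rw [comp_f, mkHomFromSingle_f, Category.assoc, hzF, comp_zero, zero_f]
  have hsum := eq_sum_of_comp_compl_eq_zero L hψ
  have h2 : φ = (φ ≫ θ) ≫ θ' := by rw [Category.assoc, hθ, Category.comp_id]
  rw [h2, hφ, hsum, Functor.map_sum, Preadditive.sum_comp]
  apply isFin_sum
  intro k _
  rw [Functor.map_comp, Category.assoc, hθ', ← Category.assoc]
  exact isFin_comp_ι k _

theorem isCompactObject_gen : CohDer.IsCompactObject (gen R) :=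
  isCompactObject_of_isFin (fun _ X φ => isFin_gen X φ)

/-- `R` placed in degree `j`, as an object of the derived category -/
noncomputable abbrev genAt (j : ℤ) : DerivedCategory (ModuleCat.{v} R) :=
  Q.obj ((single (ModuleCat.{v} R) (ComplexShape.up ℤ) j).obj (ModuleCat.of R R))

variable (R) in
/-- `R[0] ≅ R[-j][j]` -/
noncomputable def genIso (j : ℤ) : gen R ≅ (genAt (R := R) j)⟦j⟧ :=
  Q.mapIso (((CochainComplex.singleFunctors (ModuleCat.{v} R)).shiftIso j 0 j (add_zero j)).app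
    (ModuleCat.of R R)).symm ≪≫ (Q.commShiftIso j).app _

lemma hom_genAt_eq_zero {K : DerivedCategory (ModuleCat.{v} R)}
    (hK : ∀ (n : ℤ) (f : gen R ⟶ K⟦n⟧), f = 0) (j : ℤ) (f : genAt (R := R) j ⟶ K) : f = 0 := by
  apply (shiftFunctor (DerivedCategory (ModuleCat.{v} R)) j).map_injective
  rw [Functor.map_zero, ← cancel_epi (genIso R j).hom, comp_zero]
  exact hK j _

lemma isZero_Q_obj_of_acyclic (L : CochainComplex (ModuleCat.{v} R) ℤ) (hL : L.Acyclic) :
    IsZero (Q.obj L) := by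
  have h0 : (0 : CochainComplex (ModuleCat.{v} R) ℤ).Acyclic := by
    intro n
    rw [exactAt_iff_isZero_homology]
    exact Functor.map_isZero (homologyFunctor _ _ n) (isZero_zero _)
  haveI : QuasiIso (0 : L ⟶ 0) := by
    rw [quasiIso_iff]
    intro i
    rw [quasiIsoAt_iff_exactAt (0 : L ⟶ 0) i (hL i)]
    exact h0 i
  haveI : IsIso (Q.map (0 : L ⟶ 0)) := (isIso_Q_map_iff_quasiIso _ _).2 inferInstance
  exact IsZero.of_iso (Functor.map_isZero Q (isZero_zero _)) (asIso (Q.map (0 : L ⟶ 0)))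

theorem generates_gen : CohDer.Generates (fun _ : PUnit.{v + 1} => gen R) := by
  intro K hK
  replace hK : ∀ (n : ℤ) (f : gen R ⟶ K⟦n⟧), f = 0 := fun n f => hK ⟨⟩ n f
  let L := Q.objPreimage K
  let e : Q.obj L ≅ K := Q.objObjPreimageIso K
  refine IsZero.of_iso (isZero_Q_obj_of_acyclic L ?_) e.symm
  intro j
  rw [exactAt_iff' L (j - 1) j (j + 1) (by simp) (by simp), ShortComplex.moduleCat_exact_iff]
  intro (x : L.X j) hx
  replace hx : (L.d j (j + 1)).hom x = 0 := hx
  have hz : ∀ k, (ComplexShape.up ℤ).Rel j k → ofElt x ≫ L.d j k = 0 := by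
    intro k hk
    obtain rfl : j + 1 = k := hk
    rw [ofElt_comp, hx, ofElt_zero]
  have h0 : Q.map (mkHomFromSingle (ofElt x) hz) = 0 := by
    have := hom_genAt_eq_zero hK j (Q.map (mkHomFromSingle (ofElt x) hz) ≫ e.hom)
    rw [← cancel_mono e.hom, this, zero_comp]
  obtain ⟨y, hy⟩ := KInj.exists_boundary_of_single L (ofElt x) hz h0 (j - 1) (by omega)
  refine ⟨y.hom (1 : R), ?_⟩
  have h1 := congrArg (fun t => t.hom (1 : R)) hy
  dsimp at h1
  change (L.d (j - 1) j).hom (y.hom (1 : R)) = x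
  rw [h1]
  exact one_smul R x

end Derived

end Groth.Agent.Lib.Helper2.ModCompact
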