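import Mathlib.CategoryTheory.Triangulated.Opposite.Pretriangulated
import Mathlib.CategoryTheory.Triangulated.HomologicalFunctor
import Mathlib.CategoryTheory.Triangulated.Yoneda
import Mathlib.Algebra.Homology.ShortComplex.Ab
import Mathlib.Algebra.Category.Grp.Limits
import Mathlib.CategoryTheory.Limits.Types.Limits
import Mathlib.CategoryTheory.Limits.Preserves.Shapes.Products

/-!
# Contravariant cohomological functors to abelian groups turning coproducts into products
-/

set_option autoImplicit false

namespace Groth.Agent.Lib.Helper2.Brown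

open CategoryTheory CategoryTheory.Limits CategoryTheory.Pretriangulated Opposite

universe v u

variable {D : Type u} [Category.{v} D] [Preadditive D] [HasZeroObject D] [HasShift D ℤ]
  [∀ n : ℤ, (shiftFunctor D n).Additive] [Pretriangulated D]

variable (D) in
/-- A contravariant additive functor to abelian groups which is exact on distinguished triangles
and sends (small) coproducts to products. -/
structure CohFun where
  H : Dᵒᵖ ⥤ AddCommGrpCat.{v}
  additive : H.Additive
  exact : ∀ (T : Triangle D), T ∈ distTriang D → ∀ a : H.obj (op T.obj₂),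
    (H.map T.mor₁.op).hom a = 0 → ∃ b : H.obj (op T.obj₃), (H.map T.mor₂.op).hom b = a
  prod : ∀ {κ : Type v} (X : κ → D) (c : Cofan X), IsColimit c →
    Function.Bijective (fun (a : H.obj (op c.pt)) (k : κ) => (H.map (c.inj k).op).hom a)

namespace CohFun

variable (h : CohFun D)

/-- the value group -/
abbrev G (X : D) : Type v := h.H.obj (op X)

/-- pullback of elements -/
def ev {X Y : D} (f : X ⟶ Y) : h.G Y →+ h.G X := (h.H.map f.op).hom

@[simp] lemma ev_id (X : D) (a : h.G X) : h.ev (𝟙 X) a = a := by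
  simp [ev]

lemma ev_comp {X Y Z : D} (f : X ⟶ Y) (g : Y ⟶ Z) (a : h.G Z) :
    h.ev (f ≫ g) a = h.ev f (h.ev g a) := by
  simp [ev]

lemma ev_add {X Y : D} (f g : X ⟶ Y) (a : h.G Y) : h.ev (f + g) a = h.ev f a + h.ev g a := by
  have := h.additive
  simp [ev, Functor.map_add]

lemma ev_zero {X Y : D} (a : h.G Y) : h.ev (0 : X ⟶ Y) a = 0 := by
  have := h.additive
  simp [ev]

lemma ev_neg {X Y : D} (f : X ⟶ Y) (a : h.G Y) : h.ev (-f) a = - h.ev f a := by
  have := h.additive
  simp [ev, Functor.map_neg]

lemma ev_sub {X Y : D} (f g : X ⟶ Y) (a : h.G Y) : h.ev (f - g) a = h.ev f a - h.ev g a := by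
  rw [sub_eq_add_neg, ev_add, ev_neg, sub_eq_add_neg]

/-- evaluation at an element, as an additive map in the morphism -/
def evHom {X : D} (Y : D) (a : h.G X) : (Y ⟶ X) →+ h.G Y where
  toFun f := h.ev f a
  map_zero' := h.ev_zero a
  map_add' f g := h.ev_add f g a

@[simp] lemma evHom_apply {X Y : D} (a : h.G X) (f : Y ⟶ X) : h.evHom Y a f = h.ev f a := rfl

lemma exact' (T : Triangle D) (hT : T ∈ distTriang D) (a : h.G T.obj₂)
    (ha : h.ev T.mor₁ a = 0) : ∃ b : h.G T.obj₃, h.ev T.mor₂ b = a :=
  h.exact T hT a ha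

lemma prod_bijective {κ : Type v} {X : κ → D} (c : Cofan X) (hc : IsColimit c) :
    Function.Bijective (fun (a : h.G c.pt) (k : κ) => h.ev (c.inj k) a) :=
  h.prod X c hc

lemma prod_ext {κ : Type v} {X : κ → D} (c : Cofan X) (hc : IsColimit c) (a b : h.G c.pt)
    (hab : ∀ k, h.ev (c.inj k) a = h.ev (c.inj k) b) : a = b :=
  (h.prod_bijective c hc).1 (funext hab)

lemma prod_exists {κ : Type v} {X : κ → D} (c : Cofan X) (hc : IsColimit c)
    (a : ∀ k, h.G (X k)) : ∃ b : h.G c.pt, ∀ k, h.ev (c.inj k) b = a k := by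
  obtain ⟨b, hb⟩ := (h.prod_bijective c hc).2 a
  exact ⟨b, fun k => congrFun hb k⟩

/-- the `ULift`-reindexing of a countable cofan -/
def liftCofan {X : ℕ → D} (c : Cofan X) : Cofan (fun k : ULift.{v} ℕ => X k.down) :=
  Cofan.mk c.pt (fun k => c.inj k.down)

/-- the reindexed cofan is a colimit -/
def isColimitLiftCofan {X : ℕ → D} (c : Cofan X) (hc : IsColimit c) : IsColimit (liftCofan c) :=
  Cofan.IsColimit.mk _ (fun s => Cofan.IsColimit.desc hc (fun n => s.inj ⟨n⟩))
    (fun s k => by
      obtain ⟨n⟩ := k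
      exact Cofan.IsColimit.fac hc (fun n => s.inj ⟨n⟩) n)
    (fun s m hm => by
      apply Cofan.IsColimit.hom_ext hc
      intro n
      rw [Cofan.IsColimit.fac]
      exact hm ⟨n⟩)

lemma prodNat_ext {X : ℕ → D} (c : Cofan X) (hc : IsColimit c) (a b : h.G c.pt)
    (hab : ∀ n, h.ev (c.inj n) a = h.ev (c.inj n) b) : a = b :=
  h.prod_ext (liftCofan c) (isColimitLiftCofan c hc) a b (fun k => hab k.down)

lemma prodNat_exists {X : ℕ → D} (c : Cofan X) (hc : IsColimit c)
    (a : ∀ n, h.G (X n)) : ∃ b : h.G c.pt, ∀ n, h.ev (c.inj n) b = a n := by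
  obtain ⟨b, hb⟩ := h.prod_exists (liftCofan c) (isColimitLiftCofan c hc) (fun k => a k.down)
  exact ⟨b, fun n => hb ⟨n⟩⟩

end CohFun

section OfHomological

open CategoryTheory.Pretriangulated.Opposite

/-- the fan in the opposite category associated to a cofan -/
def opFan {κ : Type v} {X : κ → D} (c : Cofan X) : Fan (fun k => op (X k)) :=
  Fan.mk (op c.pt) (fun k => (c.inj k).op)

/-- the opposite of a colimit cofan is a limit fan -/
def isLimitOpFan {κ : Type v} {X : κ → D} (c : Cofan X) (hc : IsColimit c) :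
    IsLimit (opFan c) :=
  Fan.IsLimit.mk _ (fun s => (Cofan.IsColimit.desc hc (fun k => (s.proj k).unop)).op)
    (fun s k => by
      apply Quiver.Hom.unop_inj
      exact Cofan.IsColimit.fac hc (fun k => (s.proj k).unop) k)
    (fun s m hm => by
      apply Quiver.Hom.unop_inj
      apply Cofan.IsColimit.hom_ext hc
      intro k
      change c.inj k ≫ m.unop = c.inj k ≫ Cofan.IsColimit.desc hc (fun k => (s.proj k).unop)
      rw [Cofan.IsColimit.fac]
      exact congrArg Quiver.Hom.unop (hm k))

lemma bijective_of_isLimit_fan {κ : Type v} {F : κ → AddCommGrpCat.{v}} (c : Fan F)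
    (hc : IsLimit c) : Function.Bijective (fun (a : c.pt) (k : κ) => (c.proj k).hom a) := by
  let e := Types.isLimitEquivSections (isLimitOfPreserves (forget AddCommGrpCat.{v}) hc)
  have he : ∀ a k, (e a).1 ⟨k⟩ = (c.proj k).hom a := fun a k => rfl
  constructor
  · intro a b hab
    apply e.injective
    apply Subtype.ext
    funext ⟨k⟩
    rw [he, he]
    exact congrFun hab k
  · intro f
    let s : (Discrete.functor F ⋙ forget AddCommGrpCat.{v}).sections :=
      ⟨fun j => f j.as, by
        rintro ⟨j⟩ ⟨j'⟩ g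
        obtain rfl : j = j' := Discrete.eq_of_hom g
        have : g = 𝟙 _ := Subsingleton.elim _ _
        subst this
        simp⟩
    refine ⟨e.symm s, ?_⟩
    funext k
    have := he (e.symm s) k
    rw [Equiv.apply_symm_apply] at this
    exact this.symm

/-- A homological functor sending coproducts to products gives a `CohFun`. -/
noncomputable def CohFun.ofHomological (H : Dᵒᵖ ⥤ AddCommGrpCat.{v}) [H.IsHomological]
    [∀ (κ : Type v), PreservesLimitsOfShape (Discrete κ) H] : CohFun D where
  H := H
  additive := inferInstance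
  exact T hT a ha := by
    have hex := Functor.map_distinguished_op_exact H T hT
    rw [ShortComplex.ab_exact_iff] at hex
    exact hex a ha
  prod {κ} X c hc := by
    have hlim : IsLimit (H.mapCone (Fan.mk (op c.pt) (fun k => (c.inj k).op))) :=
      isLimitOfPreserves H (isLimitOpFan c hc)
    exact bijective_of_isLimit_fan _ ((isLimitMapConeFanMkEquiv H _ _) hlim)

end OfHomological

section Yoneda

/-- The `CohFun` represented by an object. -/
noncomputable def yonedaCohFun (X₀ : D) : CohFun D where
  H := preadditiveYoneda.obj X₀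
  additive := inferInstance
  exact T hT a ha := by
    obtain ⟨b, hb⟩ := Triangle.yoneda_exact₂ T hT (a : T.obj₂ ⟶ X₀) ha
    exact ⟨b, hb.symm⟩
  prod {κ} X c hc := by
    constructor
    · intro a b hab
      exact Cofan.IsColimit.hom_ext hc (a : c.pt ⟶ X₀) b (fun k => congrFun hab k)
    · intro f
      exact ⟨Cofan.IsColimit.desc hc (fun k => (f k : X k ⟶ X₀)),
        funext fun k => Cofan.IsColimit.fac hc _ k⟩

lemma yonedaCohFun_ev (X₀ : D) {X Y : D} (f : X ⟶ Y) (a : Y ⟶ X₀) :
    (yonedaCohFun X₀).ev f a = f ≫ a := rfl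

end Yoneda

end Groth.Agent.Lib.Helper2.Brown
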