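import Groth.Agent.Lib.Helper2.Brown.Rep
import Groth.Agent.Lib.Helper2.CompactEnv
import Mathlib.CategoryTheory.Triangulated.Functor

/-!
# Brown representability: the compactly generated case, and adjoint functors
-/

set_option autoImplicit false

namespace Groth.Agent.Lib.Helper2.Brown

open CategoryTheory CategoryTheory.Limits CategoryTheory.Pretriangulated Opposite

universe v u u'

variable {D : Type u} [Category.{v} D] [Preadditive D] [HasZeroObject D] [HasShift D ℤ]
  [∀ n : ℤ, (shiftFunctor D n).Additive] [Pretriangulated D]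
  [HasCoproducts.{v} D]

variable (D) in
/-- countable coproducts from small coproducts -/
lemma hasCountableCoproducts : HasColimitsOfShape (Discrete ℕ) D :=
  hasColimitsOfShape_of_equivalence (Discrete.equivalence (Equiv.ulift.{v} (α := ℕ)))

variable [HasColimitsOfShape (Discrete ℕ) D]

variable {ι : Type v} {E : ι → D}

/-- A family of compact objects is perfect. -/
lemma perfect_of_compact (hc : ∀ i, CohDer.IsCompactObject (E i)) : Perfect E := by
  classical
  intro X i α
  let Y : ULift.{v} ℕ → D := fun k => X k.down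
  let e : ∐ Y ≅ ∐ X := Sigma.reindex (Equiv.ulift.{v} (α := ℕ)) X
  have he : ∀ k : ULift.{v} ℕ, Sigma.ι Y k ≫ e.hom = Sigma.ι X k.down := fun k =>
    Sigma.ι_reindex_hom (Equiv.ulift.{v} (α := ℕ)) X k
  obtain ⟨F, g, hg⟩ := CompactEnv.exists_finset_sum (hc i) Y (𝟭 D) (α ≫ e.inv)
  have hα : α = ∑ k ∈ F, g k ≫ Sigma.ι X k.down := by
    have h1 : α = (α ≫ e.inv) ≫ e.hom := by simp
    rw [h1, hg, Preadditive.sum_comp]
    refine Finset.sum_congr rfl (fun k _ => ?_)
    rw [Category.assoc]
    change g k ≫ Sigma.ι Y k ≫ e.hom = _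
    rw [he]
  refine ⟨fun _ => i, fun n => if (ULift.up n) ∈ F then g ⟨n⟩ else 0,
    ∑ k ∈ F, Sigma.ι (fun _ : ℕ => E i) k.down, ?_⟩
  rw [hα, Preadditive.sum_comp]
  refine Finset.sum_congr rfl (fun k hk => ?_)
  rw [Sigma.ι_map]
  have : (ULift.up k.down) ∈ F := hk
  rw [if_pos this]

lemma exists_ne_zero_of_generates (hg : CohDer.Generates E) (X : D) (hX : ¬ IsZero X) :
    ∃ (p : ι × ℤ) (f : shiftedFamily E p ⟶ X), f ≠ 0 := by
  by_contra hcon
  push Not at hcon
  apply hX
  apply hg
  intro i n f
  have := hcon (i, -n) ((shiftLevel E n (-n) (by simp)).tr f)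
  exact (shiftLevel E n (-n) (by simp)).eq_zero_of_tr_eq_zero f this

/-- Brown representability for compactly generated categories. -/
theorem isRepresentable_of_compact (hc : ∀ i, CohDer.IsCompactObject (E i))
    (hg : CohDer.Generates E) (h : CohFun D) :
    (h.H ⋙ forget AddCommGrpCat.{v}).IsRepresentable :=
  isRepresentable (E := shiftedFamily E)
    (perfect_of_compact (fun p => CompactEnv.isCompactObject_shift (hc p.1) p.2))
    (exists_ne_zero_of_generates hg) h

section Adjoint

variable {D' : Type u'} [Category.{v} D'] [Preadditive D'] [HasZeroObject D'] [HasShift D' ℤ]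
  [∀ n : ℤ, (shiftFunctor D' n).Additive] [Pretriangulated D']
  (F : D ⥤ D') [F.CommShift ℤ] [F.IsTriangulated]
  [∀ (κ : Type v), PreservesColimitsOfShape (Discrete κ) F]

/-- the functor `W ↦ Hom(F W, Y)` -/
noncomputable def homCohFun (Y : D') : CohFun D where
  H := F.op ⋙ preadditiveYoneda.obj Y
  additive := inferInstance
  exact T hT a ha := by
    obtain ⟨b, hb⟩ := Triangle.yoneda_exact₂ _ (F.map_distinguished T hT)
      (a : F.obj T.obj₂ ⟶ Y) ha
    exact ⟨b, hb.symm⟩
  prod {κ} X c hc := by
    have hc' : IsColimit (F.mapCocone c) := isColimitOfPreserves F hc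
    constructor
    · intro a b hab
      exact hc'.hom_ext (fun ⟨k⟩ => congrFun hab k)
    · intro f
      let s : Cocone (Discrete.functor X ⋙ F) :=
        ⟨Y, Discrete.natTrans (fun k => (f k.as : F.obj (X k.as) ⟶ Y))⟩
      exact ⟨hc'.desc s, funext fun k => hc'.fac s ⟨k⟩⟩

lemma homCohFun_ev (Y : D') {W W' : D} (f : W ⟶ W') (a : F.obj W' ⟶ Y) :
    (homCohFun F Y).ev f a = F.map f ≫ a := rfl

/-- a functor with pointwise universal arrows is a left adjoint -/
lemma isLeftAdjoint_of_universal
    (hF : ∀ Y : D', ∃ (X : D) (u : F.obj X ⟶ Y), ∀ W : D,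
      Function.Bijective (fun f : W ⟶ X => F.map f ≫ u)) : F.IsLeftAdjoint := by
  choose G u hu using hF
  let e : ∀ W Y, (F.obj W ⟶ Y) ≃ (W ⟶ G Y) := fun W Y => (Equiv.ofBijective _ (hu Y W)).symm
  have he : ∀ W' W Y (f : W' ⟶ W) (g : F.obj W ⟶ Y), e W' Y (F.map f ≫ g) = f ≫ e W Y g := by
    intro W' W Y f g
    apply (e W' Y).symm.injective
    rw [Equiv.symm_apply_apply]
    change F.map f ≫ g = F.map (f ≫ e W Y g) ≫ u Y
    have hg : F.map (e W Y g) ≫ u Y = g := (e W Y).symm_apply_apply g
    rw [Functor.map_comp, Category.assoc, hg]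
  exact (Adjunction.adjunctionOfEquivRight e he).isLeftAdjoint

include F in
lemma isLeftAdjoint_of_isRepresentable
    (hrep : ∀ h : CohFun D, ∃ (X : D) (u : h.G X), ∀ Y : D,
      Function.Bijective (fun f : Y ⟶ X => h.ev f u)) : F.IsLeftAdjoint := by
  apply isLeftAdjoint_of_universal
  intro Y
  obtain ⟨X, u, hu⟩ := hrep (homCohFun F Y)
  exact ⟨X, u, hu⟩

/-- exact coproduct preserving functors out of a perfectly generated category are left
adjoints -/
theorem isLeftAdjoint_of_perfect (hE : Perfect E)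
    (hgen1 : ∀ X : D, ¬ IsZero X → ∃ (i : ι) (f : E i ⟶ X), f ≠ 0) : F.IsLeftAdjoint :=
  isLeftAdjoint_of_isRepresentable F (fun h => exists_universal hE hgen1 h)

/-- exact coproduct preserving functors out of a compactly generated category are left
adjoints -/
theorem isLeftAdjoint_of_compact (hc : ∀ i, CohDer.IsCompactObject (E i))
    (hg : CohDer.Generates E) : F.IsLeftAdjoint :=
  isLeftAdjoint_of_perfect (E := shiftedFamily E) F
    (perfect_of_compact (fun p => CompactEnv.isCompactObject_shift (hc p.1) p.2))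
    (exists_ne_zero_of_generates hg)

end Adjoint

end Groth.Agent.Lib.Helper2.Brown
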