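import Groth.Agent.Lib.Helper2.Brown.Compact

/-!
# Maps from compact objects to homotopy colimits factor through a finite stage
-/

set_option autoImplicit false

namespace Groth.Agent.Lib.Helper2.Brown

open CategoryTheory CategoryTheory.Limits CategoryTheory.Pretriangulated Opposite

universe v u

variable {D : Type u} [Category.{v} D] [Preadditive D] [HasZeroObject D] [HasShift D ℤ]
  [∀ n : ℤ, (shiftFunctor D n).Additive] [Pretriangulated D]
  [HasCoproducts.{v} D] [HasColimitsOfShape (Discrete ℕ) D]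

section

variable (K : ℕ → D) (f : ∀ n, K n ⟶ K (n + 1))

/-- projection onto the first `N` summands -/
noncomputable def pLt (N : ℕ) : ∐ K ⟶ ∐ K :=
  Sigma.desc (fun n => if n < N then Sigma.ι K n else 0)

lemma ι_pLt_of_lt {n N : ℕ} (h : n < N) : Sigma.ι K n ≫ pLt K N = Sigma.ι K n := by
  rw [pLt, Sigma.ι_desc, if_pos h]

lemma ι_pLt_of_le {n N : ℕ} (h : N ≤ n) : Sigma.ι K n ≫ pLt K N = 0 := by
  rw [pLt, Sigma.ι_desc, if_neg (not_lt.mpr h)]

lemma pLt_zero : pLt K 0 = 0 := by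
  apply Sigma.hom_ext
  intro n
  rw [ι_pLt_of_le K (Nat.zero_le n), comp_zero]

lemma shiftMap_pLt (N : ℕ) :
    DerLim.shiftMap K f ≫ pLt K (N + 1) = pLt K N ≫ DerLim.shiftMap K f := by
  apply Sigma.hom_ext
  intro n
  have hs : ∀ m, Sigma.ι K m ≫ DerLim.shiftMap K f = f m ≫ Sigma.ι K (m + 1) := fun m => by
    simp [DerLim.shiftMap]
  by_cases h : n < N
  · rw [← Category.assoc, hs, Category.assoc, ι_pLt_of_lt K (Nat.succ_lt_succ h),
      ← Category.assoc, ι_pLt_of_lt K h, hs]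
  · rw [← Category.assoc, hs, Category.assoc, ι_pLt_of_le K (Nat.succ_le_succ (not_lt.mp h)),
      ← Category.assoc, ι_pLt_of_le K (not_lt.mp h), comp_zero, zero_comp]

variable {K}

lemma exists_finset_sum_nat {C : D} (hC : CohDer.IsCompactObject C) (ψ : C ⟶ ∐ K) :
    ∃ (F : Finset (ULift.{v} ℕ)) (g : ∀ k : ULift.{v} ℕ, C ⟶ K k.down),
      ψ = ∑ k ∈ F, g k ≫ Sigma.ι K k.down := by
  let Y : ULift.{v} ℕ → D := fun k => K k.down
  let e : ∐ Y ≅ ∐ K := Sigma.reindex (Equiv.ulift.{v} (α := ℕ)) K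
  have he : ∀ k : ULift.{v} ℕ, Sigma.ι Y k ≫ e.hom = Sigma.ι K k.down := fun k =>
    Sigma.ι_reindex_hom (Equiv.ulift.{v} (α := ℕ)) K k
  obtain ⟨F, g, hg⟩ := CompactEnv.exists_finset_sum hC Y (𝟭 D) (ψ ≫ e.inv)
  refine ⟨F, g, ?_⟩
  have h1 : ψ = (ψ ≫ e.inv) ≫ e.hom := by simp
  rw [h1, hg, Preadditive.sum_comp]
  refine Finset.sum_congr rfl (fun k _ => ?_)
  rw [Category.assoc]
  change g k ≫ Sigma.ι Y k ≫ e.hom = _
  rw [he]

lemma exists_pLt_of_compact {C : D} (hC : CohDer.IsCompactObject C) (ψ : C ⟶ ∐ K) :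
    ∃ N, ψ ≫ pLt K N = ψ := by
  obtain ⟨F, g, hg⟩ := exists_finset_sum_nat hC ψ
  refine ⟨F.sup (fun k => k.down) + 1, ?_⟩
  conv_lhs => rw [hg]
  conv_rhs => rw [hg]
  rw [Preadditive.sum_comp]
  refine Finset.sum_congr rfl (fun k hk => ?_)
  rw [Category.assoc, ι_pLt_of_lt]
  exact Nat.lt_succ_of_le (Finset.le_sup (f := fun k : ULift.{v} ℕ => k.down) hk)

lemma eq_zero_of_comp_one_sub_shiftMap {C : D} (hC : CohDer.IsCompactObject C) (ψ : C ⟶ ∐ K)
    (hψ : ψ ≫ (𝟙 _ - DerLim.shiftMap K f) = 0) : ψ = 0 := by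
  have hs : ψ ≫ DerLim.shiftMap K f = ψ := by
    rw [Preadditive.comp_sub, Category.comp_id, sub_eq_zero] at hψ
    exact hψ.symm
  have h0 : ∀ N, ψ ≫ pLt K N = 0 := by
    intro N
    induction N with
    | zero => rw [pLt_zero, comp_zero]
    | succ N ih =>
      rw [← hs, Category.assoc, shiftMap_pLt, ← Category.assoc, ih, zero_comp]
  obtain ⟨N, hN⟩ := exists_pLt_of_compact hC ψ
  rw [← hN, h0]

/-- Maps from a compact object to a homotopy colimit factor through a finite stage. -/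
theorem exists_factor_of_isHocolim {C L : D} (hC : CohDer.IsCompactObject C)
    (i : ∀ n, K n ⟶ L) (hL : DerLim.IsHocolim K f L i) (φ : C ⟶ L) :
    ∃ (n : ℕ) (ψ : C ⟶ K n), φ = ψ ≫ i n := by
  obtain ⟨c, hT⟩ := hL
  have h12 : (𝟙 _ - DerLim.shiftMap K f) ≫ Sigma.desc i = 0 := comp_distTriang_mor_zero₁₂ _ hT
  have h31 : c ≫ (shiftFunctor D (1 : ℤ)).map (𝟙 _ - DerLim.shiftMap K f) = 0 :=
    comp_distTriang_mor_zero₃₁ _ hT
  have h1 : φ ≫ c = 0 := by
    let L1 : Level (fun _ : PUnit.{v + 1} => C) := shiftLevel _ 1 (-1) (by simp)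
    have e1 : L1.tr ((φ ≫ c : C ⟶ L1.Φ.obj (∐ K)) ≫
        L1.Φ.map (𝟙 _ - DerLim.shiftMap K f)) =
        L1.tr (φ ≫ c : C ⟶ L1.Φ.obj (∐ K)) ≫ (𝟙 _ - DerLim.shiftMap K f) :=
      L1.tr_comp_map _ _
    have e2 : (φ ≫ c : C ⟶ L1.Φ.obj (∐ K)) ≫ L1.Φ.map (𝟙 _ - DerLim.shiftMap K f) = 0 := by
      change (φ ≫ c) ≫ (shiftFunctor D (1 : ℤ)).map (𝟙 _ - DerLim.shiftMap K f) = 0
      rw [Category.assoc, h31, comp_zero]
    rw [e2, L1.tr_zero] at e1
    apply L1.eq_zero_of_tr_eq_zero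
    exact eq_zero_of_comp_one_sub_shiftMap f (CompactEnv.isCompactObject_shift hC (-1)) _
      e1.symm
  obtain ⟨ψ, hψ⟩ : ∃ ψ : C ⟶ ∐ K, φ = ψ ≫ Sigma.desc i := Triangle.coyoneda_exact₃ _ hT φ h1
  obtain ⟨F, g, hg⟩ := exists_finset_sum_nat hC ψ
  have hi : ∀ n, i n = f n ≫ i (n + 1) := by
    intro n
    have h2 := congrArg (fun t => Sigma.ι K n ≫ t) h12
    simp only [comp_zero, Preadditive.sub_comp, Preadditive.comp_sub, Category.id_comp,
      Sigma.ι_desc] at h2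
    rw [sub_eq_zero] at h2
    rw [h2, DerLim.shiftMap, ← Category.assoc, Sigma.ι_desc, Category.assoc, Sigma.ι_desc]
  have lift : ∀ (m n : ℕ) (g : C ⟶ K n), ∃ g' : C ⟶ K (n + m), g ≫ i n = g' ≫ i (n + m) := by
    intro m
    induction m with
    | zero => exact fun n g => ⟨g, rfl⟩
    | succ m ih =>
      intro n g
      obtain ⟨g', hg'⟩ := ih n g
      exact ⟨g' ≫ f (n + m), by rw [hg', hi (n + m), Category.assoc]; rfl⟩
  have lift' : ∀ (n N : ℕ) (_ : n ≤ N) (g : C ⟶ K n), ∃ g' : C ⟶ K N, g ≫ i n = g' ≫ i N := by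
    intro n N hnN g
    obtain ⟨m, rfl⟩ := Nat.exists_eq_add_of_le hnN
    exact lift m n g
  have key : ∀ F : Finset (ULift.{v} ℕ), ∃ (N : ℕ) (ψ' : C ⟶ K N),
      ∑ k ∈ F, g k ≫ i k.down = ψ' ≫ i N := by
    classical
    intro F
    induction F using Finset.induction_on with
    | empty => exact ⟨0, 0, by simp⟩
    | insert k F hk ih =>
      obtain ⟨N, ψ', hψ'⟩ := ih
      obtain ⟨g₁, hg₁⟩ := lift' k.down (max k.down N) (le_max_left _ _) (g k)
      obtain ⟨g₂, hg₂⟩ := lift' N (max k.down N) (le_max_right _ _) ψ'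
      refine ⟨max k.down N, g₁ + g₂, ?_⟩
      rw [Finset.sum_insert hk, hψ', hg₁, hg₂, Preadditive.add_comp]
  obtain ⟨N, ψ', hψ'⟩ := key F
  refine ⟨N, ψ', ?_⟩
  rw [hψ, hg, Preadditive.sum_comp, ← hψ']
  refine Finset.sum_congr rfl (fun k _ => ?_)
  rw [Category.assoc, Sigma.ι_desc]

end

end Groth.Agent.Lib.Helper2.Brown
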