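import Mathlib.CategoryTheory.Triangulated.Pretriangulated
import Mathlib.CategoryTheory.Limits.Preserves.Shapes.Products
import Mathlib.CategoryTheory.Adjunction.Limits

/-!
# A coproduct of distinguished triangles is distinguished
-/

set_option autoImplicit false

namespace Groth.Agent.Lib.Helper2.Brown

open CategoryTheory CategoryTheory.Limits CategoryTheory.Pretriangulated

universe w v u

variable {D : Type u} [Category.{v} D] [Preadditive D] [HasZeroObject D] [HasShift D ℤ]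
  [∀ n : ℤ, (shiftFunctor D n).Additive] [Pretriangulated D]

/-- The shifted inclusions exhibit the shift of a coproduct as a coproduct. -/
noncomputable def isColimitShiftCofan {J : Type w} (X : J → D) [HasCoproduct X] (n : ℤ) :
    IsColimit (Cofan.mk ((shiftFunctor D n).obj (∐ X))
      (fun j => (shiftFunctor D n).map (Sigma.ι X j))) :=
  isColimitOfHasCoproductOfPreservesColimit (shiftFunctor D n) X

/-- morphisms out of the shift of a coproduct -/
noncomputable def shiftSigmaDesc {J : Type w} (X : J → D) [HasCoproduct X] (n : ℤ) {A : D}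
    (a : ∀ j, (shiftFunctor D n).obj (X j) ⟶ A) : (shiftFunctor D n).obj (∐ X) ⟶ A :=
  Cofan.IsColimit.desc (isColimitShiftCofan X n) a

@[reassoc (attr := simp)]
lemma shift_ι_shiftSigmaDesc {J : Type w} (X : J → D) [HasCoproduct X] (n : ℤ) {A : D}
    (a : ∀ j, (shiftFunctor D n).obj (X j) ⟶ A) (j : J) :
    (shiftFunctor D n).map (Sigma.ι X j) ≫ shiftSigmaDesc X n a = a j :=
  Cofan.IsColimit.fac (isColimitShiftCofan X n) a j

lemma shiftSigma_hom_ext {J : Type w} (X : J → D) [HasCoproduct X] (n : ℤ) {A : D}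
    (f g : (shiftFunctor D n).obj (∐ X) ⟶ A)
    (h : ∀ j, (shiftFunctor D n).map (Sigma.ι X j) ≫ f =
      (shiftFunctor D n).map (Sigma.ι X j) ≫ g) : f = g :=
  Cofan.IsColimit.hom_ext (isColimitShiftCofan X n) f g h

/-- A coproduct of distinguished triangles is distinguished. -/
theorem coproductTriangle_distinguished {J : Type w} (T : J → Triangle D)
    (hT : ∀ j, T j ∈ distTriang D)
    [HasCoproduct (fun j => (T j).obj₁)] [HasCoproduct (fun j => (T j).obj₂)]
    [HasCoproduct (fun j => (T j).obj₃)] :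
    Triangle.mk (Limits.Sigma.map (fun j => (T j).mor₁)) (Limits.Sigma.map (fun j => (T j).mor₂))
      (Sigma.desc (fun j => (T j).mor₃ ≫
        (shiftFunctor D (1 : ℤ)).map (Sigma.ι (fun j => (T j).obj₁) j))) ∈ distTriang D := by
  obtain ⟨Z', g', h', hT'⟩ := distinguished_cocone_triangle
    (Limits.Sigma.map (fun j => (T j).mor₁))
  have hc : ∀ j, ∃ c : (T j).obj₃ ⟶ Z',
      (T j).mor₂ ≫ c = Sigma.ι (fun j => (T j).obj₂) j ≫ g' ∧
      (T j).mor₃ ≫ (shiftFunctor D (1 : ℤ)).map (Sigma.ι (fun j => (T j).obj₁) j) = c ≫ h' :=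
    fun j => complete_distinguished_triangle_morphism (T j) _ (hT j) hT'
      (Sigma.ι (fun j => (T j).obj₁) j) (Sigma.ι (fun j => (T j).obj₂) j)
      (by dsimp only [Triangle.mk]; rw [Sigma.ι_map])
  choose c hc₁ hc₂ using hc
  have h1 : Limits.Sigma.map (fun j => (T j).mor₂) ≫ Sigma.desc c = g' := by
    apply Sigma.hom_ext
    intro j
    rw [Sigma.ι_map_assoc, Sigma.ι_desc, hc₁]
  have h2 : Sigma.desc c ≫ h' = Sigma.desc (fun j => (T j).mor₃ ≫
      (shiftFunctor D (1 : ℤ)).map (Sigma.ι (fun j => (T j).obj₁) j)) := by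
    apply Sigma.hom_ext
    intro j
    rw [Sigma.ι_desc_assoc, Sigma.ι_desc, hc₂]
  suffices h : IsIso (Sigma.desc c) by
    let e₃ : (∐ fun j => (T j).obj₃) ≅ Z' := @asIso _ _ _ _ (Sigma.desc c) h
    refine isomorphic_distinguished _ hT' _
      (Triangle.isoMk _ _ (Iso.refl _) (Iso.refl _) e₃ ?_ ?_ ?_)
    · change Limits.Sigma.map (fun j => (T j).mor₁) ≫ 𝟙 _ =
        𝟙 _ ≫ Limits.Sigma.map (fun j => (T j).mor₁)
      rw [Category.comp_id, Category.id_comp]
    · change Limits.Sigma.map (fun j => (T j).mor₂) ≫ Sigma.desc c = 𝟙 _ ≫ g'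
      rw [Category.id_comp, h1]
    · change Sigma.desc (fun j => (T j).mor₃ ≫
        (shiftFunctor D (1 : ℤ)).map (Sigma.ι (fun j => (T j).obj₁) j)) ≫
          (shiftFunctor D (1 : ℤ)).map (𝟙 _) = Sigma.desc c ≫ h'
      rw [CategoryTheory.Functor.map_id, Category.comp_id, h2]
  refine isIso_of_coyoneda_map_bijective _ (fun A => ⟨?_, ?_⟩)
  · -- injectivity
    intro a₁ a₂ ha
    dsimp only at ha
    rw [← sub_eq_zero] at ha ⊢
    rw [← Preadditive.comp_sub] at ha
    generalize a₁ - a₂ = a at ha ⊢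
    have ha1 : g' ≫ a = 0 := by rw [← h1, Category.assoc, ha, comp_zero]
    obtain ⟨a', ha'⟩ : ∃ a' : (shiftFunctor D (1 : ℤ)).obj (∐ fun j => (T j).obj₁) ⟶ A,
        a = h' ≫ a' := Triangle.yoneda_exact₃ _ hT' a ha1
    have hj : ∀ j, (T j).mor₃ ≫
        ((shiftFunctor D (1 : ℤ)).map (Sigma.ι (fun j => (T j).obj₁) j) ≫ a') = 0 := by
      intro j
      rw [← Category.assoc, hc₂, Category.assoc, ← ha']
      have := congrArg (Sigma.ι (fun j => (T j).obj₃) j ≫ ·) ha
      simpa using this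
    have hd : ∀ j, ∃ d : (shiftFunctor D (1 : ℤ)).obj (T j).obj₂ ⟶ A,
        (shiftFunctor D (1 : ℤ)).map (Sigma.ι (fun j => (T j).obj₁) j) ≫ a' =
          (shiftFunctor D (1 : ℤ)).map (T j).mor₁ ≫ d := by
      intro j
      obtain ⟨d, hd⟩ : ∃ d : (shiftFunctor D (1 : ℤ)).obj (T j).obj₂ ⟶ A,
          (shiftFunctor D (1 : ℤ)).map (Sigma.ι (fun j => (T j).obj₁) j) ≫ a' =
            (-(shiftFunctor D (1 : ℤ)).map (T j).mor₁) ≫ d :=
        Triangle.yoneda_exact₃ _ (rot_of_distTriang _ (hT j)) _ (hj j)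
      refine ⟨-d, ?_⟩
      rw [hd, Preadditive.neg_comp, Preadditive.comp_neg]
    choose d hd using hd
    have ha'' : a' = (shiftFunctor D (1 : ℤ)).map (Limits.Sigma.map (fun j => (T j).mor₁)) ≫
        shiftSigmaDesc (fun j => (T j).obj₂) 1 d := by
      apply shiftSigma_hom_ext
      intro j
      rw [hd, ← Category.assoc, ← Functor.map_comp, Sigma.ι_map, Functor.map_comp, Category.assoc,
        shift_ι_shiftSigmaDesc]
    rw [ha', ha'', ← Category.assoc]
    have h0 : h' ≫ (shiftFunctor D (1 : ℤ)).map (Limits.Sigma.map (fun j => (T j).mor₁)) = 0 :=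
      comp_distTriang_mor_zero₃₁ _ hT'
    rw [h0, zero_comp]
  · -- surjectivity
    intro b
    have hb0 : Limits.Sigma.map (fun j => (T j).mor₁) ≫
        (Limits.Sigma.map (fun j => (T j).mor₂) ≫ b) = 0 := by
      rw [← Category.assoc]
      have : Limits.Sigma.map (fun j => (T j).mor₁) ≫ Limits.Sigma.map (fun j => (T j).mor₂) = 0 := by
        apply Sigma.hom_ext
        intro j
        rw [Sigma.ι_map_assoc, Sigma.ι_map, ← Category.assoc,
          comp_distTriang_mor_zero₁₂ _ (hT j), zero_comp, comp_zero]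
      rw [this, zero_comp]
    obtain ⟨a₀, ha₀⟩ : ∃ a₀ : Z' ⟶ A, Limits.Sigma.map (fun j => (T j).mor₂) ≫ b = g' ≫ a₀ :=
      Triangle.yoneda_exact₂ _ hT' _ hb0
    have hb1 : ∀ j, (T j).mor₂ ≫ (Sigma.ι (fun j => (T j).obj₃) j ≫ (b - Sigma.desc c ≫ a₀)) = 0 := by
      intro j
      have hι : (T j).mor₂ ≫ Sigma.ι (fun j => (T j).obj₃) j =
          Sigma.ι (fun j => (T j).obj₂) j ≫ Limits.Sigma.map (fun j => (T j).mor₂) :=
        (Sigma.ι_map (fun j => (T j).mor₂) j).symm
      rw [← Category.assoc, hι, Category.assoc, Preadditive.comp_sub, ha₀,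
        ← Category.assoc _ (Sigma.desc c), h1, sub_self, comp_zero]
    have he : ∀ j, ∃ e : (shiftFunctor D (1 : ℤ)).obj (T j).obj₁ ⟶ A,
        Sigma.ι (fun j => (T j).obj₃) j ≫ (b - Sigma.desc c ≫ a₀) = (T j).mor₃ ≫ e :=
      fun j => Triangle.yoneda_exact₃ _ (hT j) _ (hb1 j)
    choose e he using he
    refine ⟨a₀ + h' ≫ shiftSigmaDesc (fun j => (T j).obj₁) 1 e, ?_⟩
    dsimp only
    rw [Preadditive.comp_add, ← Category.assoc, h2]
    have : Sigma.desc (fun j => (T j).mor₃ ≫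
        (shiftFunctor D (1 : ℤ)).map (Sigma.ι (fun j => (T j).obj₁) j)) ≫
        shiftSigmaDesc (fun j => (T j).obj₁) 1 e = b - Sigma.desc c ≫ a₀ := by
      apply Sigma.hom_ext
      intro j
      rw [Sigma.ι_desc_assoc, Category.assoc, shift_ι_shiftSigmaDesc, he]
    rw [this]
    abel

end Groth.Agent.Lib.Helper2.Brown
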