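import Mathlib
import Groth.Agent.Lib.Helper2.Brown.CohFun

/-!
# Brown representability passes to Bousfield localizations (helper2)

Let `LF : D₁ ⥤ D₂` be a triangulated functor with a fully faithful right adjoint `RG`
(i.e. the counit is an isomorphism). If every cohomological functor on `D₁` turning coproducts
into products is representable, the same holds for `D₂`.
-/

set_option autoImplicit false

namespace Groth.Agent.Lib.Helper2.Brown

open CategoryTheory CategoryTheory.Limits CategoryTheory.Pretriangulated Opposite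

universe v u₁ u₂

variable {D₁ : Type u₁} [Category.{v} D₁] [Preadditive D₁] [HasZeroObject D₁] [HasShift D₁ ℤ]
  [∀ n : ℤ, (shiftFunctor D₁ n).Additive] [Pretriangulated D₁]
  {D₂ : Type u₂} [Category.{v} D₂] [Preadditive D₂] [HasZeroObject D₂] [HasShift D₂ ℤ]
  [∀ n : ℤ, (shiftFunctor D₂ n).Additive] [Pretriangulated D₂]
  (LF : D₁ ⥤ D₂) [LF.CommShift ℤ] [LF.IsTriangulated] [LF.Additive]
  [∀ (κ : Type v), PreservesColimitsOfShape (Discrete κ) LF]

/-- the pullback of a cohomological functor along a triangulated coproduct-preserving functor -/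
noncomputable def pullCohFun (h : CohFun D₂) : CohFun D₁ where
  H := LF.op ⋙ h.H
  additive := by
    haveI := h.additive
    infer_instance
  exact T hT a ha := h.exact _ (LF.map_distinguished T hT) a ha
  prod {κ} X c hc :=
    h.prod (fun k => LF.obj (X k)) (Cofan.mk (LF.obj c.pt) (fun k => LF.map (c.inj k)))
      (isColimitCofanMkObjOfIsColimit LF _ _ hc)

lemma pullCohFun_ev (h : CohFun D₂) {X Y : D₁} (f : X ⟶ Y) (a : h.G (LF.obj Y)) :
    (pullCohFun LF h).ev f a = h.ev (LF.map f) a := rfl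

lemma CohFun.ev_bijective_of_isIso (h : CohFun D₂) {X Y : D₂} (f : X ⟶ Y) [IsIso f] :
    Function.Bijective (h.ev f) := by
  refine Function.bijective_iff_has_inverse.2 ⟨h.ev (inv f), fun a => ?_, fun a => ?_⟩
  · rw [← h.ev_comp, IsIso.inv_hom_id, h.ev_id]
  · rw [← h.ev_comp, IsIso.hom_inv_id, h.ev_id]

variable {LF} {RG : D₂ ⥤ D₁} (adj : LF ⊣ RG) [IsIso adj.counit]

include adj in
/-- Brown representability passes to a Bousfield localization -/
theorem exists_universal_of_adj
    (hD₁ : ∀ h' : CohFun D₁, ∃ (Y : D₁) (u : h'.G Y), ∀ X' : D₁,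
      Function.Bijective (fun f : X' ⟶ Y => h'.ev f u))
    (h : CohFun D₂) :
    ∃ (Z : D₂) (u : h.G Z), ∀ X : D₂, Function.Bijective (fun g : X ⟶ Z => h.ev g u) := by
  obtain ⟨Y, u, hu⟩ := hD₁ (pullCohFun LF h)
  replace hu : ∀ X' : D₁, Function.Bijective (fun f : X' ⟶ Y => h.ev (LF.map f) u) := hu
  -- Claim 1
  have claim1 : ∀ {X' X'' : D₁} (s : X' ⟶ X'') [IsIso (LF.map s)],
      Function.Bijective (fun f : X'' ⟶ Y => s ≫ f) := by
    intro X' X'' s _
    have h1 : (fun f : X' ⟶ Y => h.ev (LF.map f) u) ∘ (fun f : X'' ⟶ Y => s ≫ f) =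
        h.ev (LF.map s) ∘ (fun f : X'' ⟶ Y => h.ev (LF.map f) u) := by
      funext f
      dsimp
      rw [LF.map_comp, h.ev_comp]
    have h2 : Function.Bijective ((fun f : X' ⟶ Y => h.ev (LF.map f) u) ∘
        (fun f : X'' ⟶ Y => s ≫ f)) := by
      rw [h1]
      exact (h.ev_bijective_of_isIso (LF.map s)).comp (hu X'')
    exact (Function.Bijective.of_comp_iff' (hu X') _).1 h2
  -- Claim 2
  obtain ⟨η, hηdef⟩ : ∃ η : Y ⟶ RG.obj (LF.obj Y), η = adj.unit.app Y := ⟨_, rfl⟩
  have htri : LF.map η ≫ adj.counit.app (LF.obj Y) = 𝟙 _ := by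
    rw [hηdef, adj.left_triangle_components]
  haveI hη : IsIso (LF.map η) := by
    have : LF.map η = inv (adj.counit.app (LF.obj Y)) := by
      rw [← cancel_mono (adj.counit.app (LF.obj Y)), htri, IsIso.inv_hom_id]
    rw [this]
    infer_instance
  -- Claim 3
  haveI : IsIso η := by
    obtain ⟨r, hr⟩ := (claim1 η).2 (𝟙 Y)
    replace hr : η ≫ r = 𝟙 Y := hr
    refine ⟨r, hr, ?_⟩
    have hinj : Function.Injective (fun m : RG.obj (LF.obj Y) ⟶ RG.obj (LF.obj Y) => η ≫ m) := by
      intro m m' hm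
      replace hm : η ≫ m = η ≫ m' := hm
      apply (adj.homEquiv _ _).symm.injective
      rw [adj.homEquiv_counit, adj.homEquiv_counit]
      have h3 := congrArg (fun t => LF.map t ≫ adj.counit.app (LF.obj Y)) hm
      dsimp at h3
      rw [LF.map_comp, LF.map_comp, Category.assoc, Category.assoc, cancel_epi] at h3
      exact h3
    apply hinj
    dsimp
    rw [← Category.assoc, hr, Category.id_comp, Category.comp_id]
  -- Claim 4
  refine ⟨LF.obj Y, u, fun X => ?_⟩
  let α : (RG.obj X ⟶ Y) → (X ⟶ LF.obj Y) := fun f => inv (adj.counit.app X) ≫ LF.map f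
  have hα : Function.Bijective α := by
    have : α = (fun g : LF.obj (RG.obj X) ⟶ LF.obj Y => inv (adj.counit.app X) ≫ g) ∘
        (adj.homEquiv (RG.obj X) (LF.obj Y)).symm ∘ (fun f : RG.obj X ⟶ Y => f ≫ η) := by
      funext f
      dsimp [α]
      rw [adj.homEquiv_counit, LF.map_comp, Category.assoc, htri, Category.comp_id]
    rw [this]
    refine Function.Bijective.comp ?_ (Function.Bijective.comp (Equiv.bijective _) ?_)
    · exact Function.bijective_iff_has_inverse.2 ⟨fun g => adj.counit.app X ≫ g,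
        fun g => by simp, fun g => by simp⟩
    · exact Function.bijective_iff_has_inverse.2 ⟨fun g => g ≫ inv η,
        fun g => by simp, fun g => by simp⟩
  have h4 : (fun g : X ⟶ LF.obj Y => h.ev g u) ∘ α =
      h.ev (inv (adj.counit.app X)) ∘ (fun f : RG.obj X ⟶ Y => h.ev (LF.map f) u) := by
    funext f
    dsimp [α]
    rw [h.ev_comp]
  have h5 : Function.Bijective ((fun g : X ⟶ LF.obj Y => h.ev g u) ∘ α) := by
    rw [h4]
    exact (h.ev_bijective_of_isIso _).comp (hu _)
  exact (Function.Bijective.of_comp_iff _ hα).1 h5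

end Groth.Agent.Lib.Helper2.Brown
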