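import Mathlib
import Groth.Agent.Lib.Helper2.Brown.Compact
import Groth.Agent.Lib.Helper2.Brown.Transfer
import Groth.Agent.Lib.Helper2.Brown.ModCompact
import Groth.Agent.Lib.Helper2.KInj.SmallD
import Groth.Agent.Lib.Helper2.KInj.DerivedAdjK

/-!
# Brown representability for the derived category of a Grothendieck abelian category (helper2)
-/

set_option autoImplicit false
universe v u
open CategoryTheory Limits

namespace Groth.Agent.Lib.Helper2.Brown

section

variable {R : Type v} [Ring R] [HasDerivedCategory.{v} (ModuleCat.{v} R)]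

/-- Brown representability for `D(Mod R)` -/
theorem exists_universal_moduleCat (h : CohFun (DerivedCategory (ModuleCat.{v} R))) :
    ∃ (X : DerivedCategory (ModuleCat.{v} R)) (u : h.G X),
      ∀ Y, Function.Bijective (fun f : Y ⟶ X => h.ev f u) := by
  haveI := hasCountableCoproducts (DerivedCategory (ModuleCat.{v} R))
  let E : PUnit.{v + 1} → DerivedCategory (ModuleCat.{v} R) := fun _ => ModCompact.gen R
  exact exists_universal (E := shiftedFamily E)
    (perfect_of_compact (fun p => CompactEnv.isCompactObject_shift
      (ModCompact.isCompactObject_gen (R := R)) p.2))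
    (exists_ne_zero_of_generates (E := E) ModCompact.generates_gen) h

end

variable {A : Type u} [Category.{v} A] [Abelian A] [IsGrothendieckAbelian.{v} A]
  [HasDerivedCategory.{v} A]

/-- Brown representability for `D(A)`, `A` Grothendieck abelian -/
theorem exists_universal_derivedCategory (h : CohFun (DerivedCategory A)) :
    ∃ (X : DerivedCategory A) (u : h.G X),
      ∀ Y, Function.Bijective (fun f : Y ⟶ X => h.ev f u) := by
  let U := separator A
  have hU : IsSeparator U := isSeparator_separator A
  letI : HasDerivedCategory.{v} (ModuleCat.{v} (End U)ᵐᵒᵖ) :=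
    KInj.smallHasDerivedCategory (ModuleCat.{v} (End U)ᵐᵒᵖ)
  let adj := IsGrothendieckAbelian.tensorObjPreadditiveCoyonedaObjAdjunction U
  haveI : (IsGrothendieckAbelian.tensorObj U).Additive := adj.left_adjoint_additive
  haveI : PreservesFiniteLimits (IsGrothendieckAbelian.tensorObj U) :=
    IsGrothendieckAbelian.GabrielPopescu.preservesFiniteLimits U hU
  haveI : PreservesFiniteColimits (IsGrothendieckAbelian.tensorObj U) := by
    haveI := adj.leftAdjoint_preservesColimits
    infer_instance
  have hKinj : ∀ K : CochainComplex A ℤ, ∃ (I : CochainComplex A ℤ)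
      (f : K ⟶ I), I.IsKInjective ∧ QuasiIso f := by
    intro K
    obtain ⟨I, f, h1, h2, -, -⟩ := KInj.exists_kInjective_resolution K
    exact ⟨I, f, h1, h2⟩
  haveI : (preadditiveCoyonedaObj U).Full := IsGrothendieckAbelian.GabrielPopescu.full U hU
  haveI : (preadditiveCoyonedaObj U).Faithful :=
    (isSeparator_iff_faithful_preadditiveCoyonedaObj U).1 hU
  haveI : IsIso adj.counit := inferInstance
  haveI := LocalRes.hasRightDerivedFunctor _ (exists_local_resolution hKinj)
    ((preadditiveCoyonedaObj U).mapHomotopyCategory (ComplexShape.up ℤ) ⋙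
      DerivedCategory.Qh (C := ModuleCat.{v} (End U)ᵐᵒᵖ))
  let RG := ((preadditiveCoyonedaObj U).mapHomotopyCategory (ComplexShape.up ℤ) ⋙
      DerivedCategory.Qh (C := ModuleCat.{v} (End U)ᵐᵒᵖ)).totalRightDerived DerivedCategory.Qh
      (HomotopyCategory.quasiIso A (ComplexShape.up ℤ))
  let β := ((preadditiveCoyonedaObj U).mapHomotopyCategory (ComplexShape.up ℤ) ⋙
      DerivedCategory.Qh (C := ModuleCat.{v} (End U)ᵐᵒᵖ)).totalRightDerivedUnit DerivedCategory.Qh
      (HomotopyCategory.quasiIso A (ComplexShape.up ℤ))
  let adjD : (IsGrothendieckAbelian.tensorObj U).mapDerivedCategory ⊣ RG :=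
    KInj.derivedAdjK adj hKinj RG β
  haveI : IsIso adjD.counit := KInj.isIso_derivedAdjK_counit adj hKinj RG β
  haveI : ∀ (κ : Type v), PreservesColimitsOfShape (Discrete κ)
      (IsGrothendieckAbelian.tensorObj U).mapDerivedCategory := by
    intro κ
    haveI := adjD.leftAdjoint_preservesColimits
    infer_instance
  exact exists_universal_of_adj adjD (fun h' => exists_universal_moduleCat h') h

/-- representability form -/
theorem isRepresentable_derivedCategory (h : CohFun (DerivedCategory A)) :
    (h.H ⋙ forget AddCommGrpCat.{v}).IsRepresentable := by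
  obtain ⟨X, u, hu⟩ := exists_universal_derivedCategory h
  exact Functor.RepresentableBy.isRepresentable
    { homEquiv := fun {Y} => Equiv.ofBijective _ (hu Y)
      homEquiv_comp := fun {Y Y'} f g => by
        change h.ev (f ≫ g) u = h.ev f (h.ev g u)
        rw [h.ev_comp] }

end Groth.Agent.Lib.Helper2.Brown
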