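import Mathlib.CategoryTheory.Preadditive.Basic
import Mathlib.CategoryTheory.Limits.Shapes.Products
import Mathlib.CategoryTheory.ObjectProperty.Basic
import Mathlib.Algebra.BigOperators.Group.Finset.Basic
import Mathlib.Algebra.BigOperators.Intervals
import Mathlib.Algebra.Group.Subgroup.Basic
import Mathlib.Tactic.Abel
import Mathlib.CategoryTheory.Triangulated.Pretriangulated

/-!
# The key additive lemma behind Brown representability for perfectly generated categories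

We consider a tower `X 0 ⟶ X 1 ⟶ …` in a preadditive category with countable coproducts, with
coproduct `W`, and a family of subgroups `N A ⊆ (A ⟶ W)` (to be thought of as the kernel of a
natural transformation `Hom(-, W) ⟶ H`).  Under the "perfectness" conditions `P1`, `P2` on a class
of objects `S`, we show that `1 - shift` is injective on `Hom(A, W)` and that its image is `N A`,
for `A` in `S`.
-/

set_option autoImplicit false

namespace Groth.Agent.Lib.Helper2.Brown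

open CategoryTheory CategoryTheory.Limits

universe v u

variable {D : Type u} [Category.{v} D] [Preadditive D] [HasColimitsOfShape (Discrete ℕ) D]

section Const

variable (Y : D)

/-- the shift on the countable coproduct of copies of `Y` -/
noncomputable def cSh : (∐ fun _ : ℕ => Y) ⟶ ∐ fun _ : ℕ => Y :=
  Sigma.desc (fun n => Sigma.ι (fun _ : ℕ => Y) (n + 1))

/-- a left inverse of `1 - cSh` -/
noncomputable def cR : (∐ fun _ : ℕ => Y) ⟶ ∐ fun _ : ℕ => Y :=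
  Sigma.desc (fun n => - ∑ k ∈ Finset.range n, Sigma.ι (fun _ : ℕ => Y) k)

/-- the fold map -/
noncomputable def cFold : (∐ fun _ : ℕ => Y) ⟶ Y := Sigma.desc (fun _ => 𝟙 Y)

@[reassoc (attr := simp)]
lemma ι_cSh (n : ℕ) : Sigma.ι (fun _ : ℕ => Y) n ≫ cSh Y = Sigma.ι (fun _ : ℕ => Y) (n + 1) := by
  simp [cSh]

@[reassoc (attr := simp)]
lemma ι_cR (n : ℕ) : Sigma.ι (fun _ : ℕ => Y) n ≫ cR Y =
    - ∑ k ∈ Finset.range n, Sigma.ι (fun _ : ℕ => Y) k := by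
  simp [cR]

@[reassoc (attr := simp)]
lemma ι_cFold (n : ℕ) : Sigma.ι (fun _ : ℕ => Y) n ≫ cFold Y = 𝟙 Y := by
  simp [cFold]

lemma one_sub_cSh_comp_cR : (𝟙 _ - cSh Y) ≫ cR Y = 𝟙 _ := by
  apply Sigma.hom_ext
  intro n
  rw [Preadditive.sub_comp, Category.id_comp, Preadditive.comp_sub, ι_cR, ι_cSh_assoc, ι_cR,
    Finset.sum_range_succ, Category.comp_id]
  abel

lemma cSh_comp_cR : cSh Y ≫ cR Y = cR Y - 𝟙 _ := by
  have h := one_sub_cSh_comp_cR Y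
  rw [Preadditive.sub_comp, Category.id_comp] at h
  rw [← h]
  abel

lemma cR_comp_one_sub_cSh : cR Y ≫ (𝟙 _ - cSh Y) + cFold Y ≫ Sigma.ι (fun _ : ℕ => Y) 0 = 𝟙 _ := by
  apply Sigma.hom_ext
  intro n
  rw [Preadditive.comp_add, ι_cR_assoc, ι_cFold_assoc, Category.comp_id, Preadditive.neg_comp,
    Preadditive.sum_comp]
  have : ∑ k ∈ Finset.range n, Sigma.ι (fun _ : ℕ => Y) k ≫ (𝟙 _ - cSh Y) =
      Sigma.ι (fun _ : ℕ => Y) 0 - Sigma.ι (fun _ : ℕ => Y) n := by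
    induction n with
    | zero => simp
    | succ n ih =>
      rw [Finset.sum_range_succ, ih, Preadditive.comp_sub, Category.comp_id, ι_cSh]
      abel
  rw [this]
  abel

end Const

/-- The data and hypotheses of the key lemma. -/
structure TData (D : Type u) [Category.{v} D] [Preadditive D]
    [HasColimitsOfShape (Discrete ℕ) D] where
  X : ℕ → D
  x : ∀ n, X n ⟶ X (n + 1)
  W : D
  ι : ∀ n, X n ⟶ W
  isColimit : IsColimit (Cofan.mk W ι)
  s : W ⟶ W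
  hs : ∀ n, ι n ≫ s = x n ≫ ι (n + 1)
  S : ObjectProperty D
  N : ∀ A : D, AddSubgroup (A ⟶ W)
  N1 : ∀ {A A' : D} (h : A' ⟶ A) (f : A ⟶ W), f ∈ N A → h ≫ f ∈ N A'
  N2 : ∀ {A : D} (f : A ⟶ W), f - f ≫ s ∈ N A
  N3 : ∀ {A : D}, S A → ∀ (n : ℕ) (g : A ⟶ X n), g ≫ ι n ∈ N A → g ≫ x n = 0
  N4 : ∀ {A : D}, S A → ∀ (n : ℕ) (β : A ⟶ X n), ∃ φ : A ⟶ X 0, β ≫ ι n - φ ≫ ι 0 ∈ N A
  P1 : ∀ (B : ℕ → D) {A : D}, S A → ∀ (f : A ⟶ ∐ B), ∃ (A' : ℕ → D) (_ : ∀ n, S (A' n))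
    (β : ∀ n, A' n ⟶ B n) (γ : A ⟶ ∐ A'), f = γ ≫ Limits.Sigma.map β
  P2 : ∀ (A₁ B : ℕ → D) (b : ∀ n, A₁ n ⟶ B n) {A : D}, S A → ∀ (γ : A ⟶ ∐ A₁),
    γ ≫ Limits.Sigma.map b = 0 → ∃ (A' : ℕ → D) (_ : ∀ n, S (A' n)) (ξ : ∀ n, A' n ⟶ A₁ n)
      (γ' : A ⟶ ∐ A'), (∀ n, ξ n ≫ b n = 0) ∧ γ = γ' ≫ Limits.Sigma.map ξ

namespace TData

variable (t : TData D)

/-- the transition maps from `X 0` -/
noncomputable def xs : ∀ n, t.X 0 ⟶ t.X n
  | 0 => 𝟙 _
  | n + 1 => xs n ≫ t.x n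

@[simp] lemma xs_zero : t.xs 0 = 𝟙 _ := rfl
lemma xs_succ (n : ℕ) : t.xs (n + 1) = t.xs n ≫ t.x n := rfl

/-- the map from the constant tower on `X 0` -/
noncomputable def xx : (∐ fun _ : ℕ => t.X 0) ⟶ t.W :=
  Sigma.desc (fun n => t.xs n ≫ t.ι n)

@[reassoc (attr := simp)]
lemma ι_xx (n : ℕ) : Sigma.ι (fun _ : ℕ => t.X 0) n ≫ t.xx = t.xs n ≫ t.ι n := by
  simp [xx]

lemma cSh_xx : cSh (t.X 0) ≫ t.xx = t.xx ≫ t.s := by
  apply Sigma.hom_ext
  intro n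
  rw [ι_cSh_assoc, ι_xx, ι_xx_assoc, t.hs, xs_succ, Category.assoc]

lemma one_sub_cSh_xx : (𝟙 _ - cSh (t.X 0)) ≫ t.xx = t.xx ≫ (𝟙 _ - t.s) := by
  rw [Preadditive.sub_comp, Preadditive.comp_sub, cSh_xx, Category.id_comp, Category.comp_id]

open Classical in
/-- the projection to `X 0` -/
noncomputable def p0 : t.W ⟶ t.X 0 :=
  Cofan.IsColimit.desc t.isColimit (fun n => if h : n = 0 then eqToHom (by rw [h]) else 0)

lemma ι_p0_zero : t.ι 0 ≫ t.p0 = 𝟙 _ := by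
  have := Cofan.IsColimit.fac t.isColimit
    (fun n => if h : n = 0 then eqToHom (by rw [h]) else (0 : t.X n ⟶ t.X 0)) 0
  simpa [p0] using this

lemma ι_p0_succ (n : ℕ) : t.ι (n + 1) ≫ t.p0 = 0 := by
  have := Cofan.IsColimit.fac t.isColimit
    (fun n => if h : n = 0 then eqToHom (by rw [h]) else (0 : t.X n ⟶ t.X 0)) (n + 1)
  simpa [p0] using this

/-- comparison with the chosen coproduct -/
noncomputable def fromSigma : ∐ t.X ⟶ t.W := Sigma.desc t.ι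

/-- comparison with the chosen coproduct -/
noncomputable def toSigma : t.W ⟶ ∐ t.X := Cofan.IsColimit.desc t.isColimit (Sigma.ι t.X)

@[reassoc (attr := simp)]
lemma ι_toSigma (n : ℕ) : t.ι n ≫ t.toSigma = Sigma.ι t.X n :=
  Cofan.IsColimit.fac t.isColimit (Sigma.ι t.X) n

@[reassoc (attr := simp)]
lemma toSigma_fromSigma : t.toSigma ≫ t.fromSigma = 𝟙 _ := by
  apply Cofan.IsColimit.hom_ext t.isColimit
  intro n
  change t.ι n ≫ _ = t.ι n ≫ _
  rw [ι_toSigma_assoc, Category.comp_id]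
  simp [fromSigma]

lemma hom_ext {A : D} (f g : t.W ⟶ A) (h : ∀ n, t.ι n ≫ f = t.ι n ≫ g) : f = g :=
  Cofan.IsColimit.hom_ext t.isColimit f g h

lemma map_fromSigma {A' : ℕ → D} (β : ∀ n, A' n ⟶ t.X n) :
    Limits.Sigma.map β ≫ t.fromSigma = Sigma.desc (fun n => β n ≫ t.ι n) := by
  apply Sigma.hom_ext
  intro n
  simp [fromSigma]

lemma comp_one_sub_s_mem {A : D} (f : A ⟶ t.W) : f ≫ (𝟙 _ - t.s) ∈ t.N A := by
  rw [Preadditive.comp_sub, Category.comp_id]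
  exact t.N2 f

lemma xs_mem {A : D} (g : A ⟶ t.X 0) (n : ℕ) :
    g ≫ t.xs n ≫ t.ι n - g ≫ t.ι 0 ∈ t.N A := by
  induction n with
  | zero => simp
  | succ n ih =>
    have h1 := t.N2 (g ≫ t.xs n ≫ t.ι n)
    have h2 : g ≫ t.xs (n + 1) ≫ t.ι (n + 1) - g ≫ t.ι 0 =
        (g ≫ t.xs n ≫ t.ι n - g ≫ t.ι 0) -
          ((g ≫ t.xs n ≫ t.ι n) - (g ≫ t.xs n ≫ t.ι n) ≫ t.s) := by
      rw [xs_succ]
      simp only [Category.assoc, t.hs]
      abel
    rw [h2]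
    exact sub_mem ih h1

lemma comp_x_zero_eq_zero {A : D} (hA : t.S A) (ξ : A ⟶ t.X 0) (n : ℕ) (h : ξ ≫ t.xs n = 0) :
    ξ ≫ t.x 0 = 0 := by
  apply t.N3 hA 0 ξ
  have h1 := t.xs_mem ξ n
  rw [← Category.assoc, h, zero_comp, zero_sub] at h1
  simpa using neg_mem h1

lemma comp_xs_eq_zero {A : D} (hA : t.S A) (ξ : A ⟶ t.X 0) (n : ℕ) (h : ξ ≫ t.xs n = 0)
    (k : ℕ) (hk : 1 ≤ k) : ξ ≫ t.xs k = 0 := by
  have h0 := t.comp_x_zero_eq_zero hA ξ n h
  induction k with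
  | zero => omega
  | succ k ih =>
    rcases Nat.eq_zero_or_pos k with rfl | hk'
    · rw [xs_succ, xs_zero, Category.id_comp, h0]
    · rw [xs_succ, ← Category.assoc, ih hk', zero_comp]

/-- normal form of a map to `W` from an object of `S` -/
lemma normalForm {A : D} (hA : t.S A) (f : A ⟶ t.W) :
    ∃ (γ₀ : A ⟶ ∐ fun _ : ℕ => t.X 0) (e : A ⟶ t.W), f = γ₀ ≫ t.xx + e ∧ e ≫ t.s = 0 := by
  obtain ⟨A', hA', β, γ, hγ⟩ := t.P1 t.X hA (f ≫ t.toSigma)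
  have hf : f = γ ≫ Sigma.desc (fun n => β n ≫ t.ι n) := by
    rw [← t.map_fromSigma, ← Category.assoc, ← hγ, Category.assoc, toSigma_fromSigma,
      Category.comp_id]
  choose φ hφ using fun n => t.N4 (hA' n) n (β n)
  have hε : ∀ n, (β n - φ n ≫ t.xs n) ≫ t.x n = 0 := by
    intro n
    apply t.N3 (hA' n) n
    have h1 := t.xs_mem (φ n) n
    have h2 : (β n - φ n ≫ t.xs n) ≫ t.ι n =
        (β n ≫ t.ι n - φ n ≫ t.ι 0) - (φ n ≫ t.xs n ≫ t.ι n - φ n ≫ t.ι 0) := by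
      rw [Preadditive.sub_comp, Category.assoc]
      abel
    rw [h2]
    exact sub_mem (hφ n) h1
  refine ⟨γ ≫ Sigma.desc (fun n => φ n ≫ Sigma.ι (fun _ : ℕ => t.X 0) n),
    γ ≫ Sigma.desc (fun n => (β n - φ n ≫ t.xs n) ≫ t.ι n), ?_, ?_⟩
  · rw [hf, Category.assoc, ← Preadditive.comp_add]
    congr 1
    apply Sigma.hom_ext
    intro n
    rw [Preadditive.comp_add, Sigma.ι_desc, Sigma.ι_desc_assoc, Sigma.ι_desc, Category.assoc,
      ι_xx, Preadditive.sub_comp, Category.assoc]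
    abel
  · rw [Category.assoc]
    have : Sigma.desc (fun n => (β n - φ n ≫ t.xs n) ≫ t.ι n) ≫ t.s = 0 := by
      apply Sigma.hom_ext
      intro n
      rw [Sigma.ι_desc_assoc, Category.assoc, t.hs, ← Category.assoc, hε, zero_comp, comp_zero]
    rw [this, comp_zero]

/-- Claim B: the subgroup `N A` is the image of `1 - s`. -/
theorem exists_of_mem_N {A : D} (hA : t.S A) (f : A ⟶ t.W) (hf : f ∈ t.N A) :
    ∃ g : A ⟶ t.W, f = g ≫ (𝟙 _ - t.s) := by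
  obtain ⟨γ₀, e, hfe, he⟩ := t.normalForm hA f
  have he' : e = e ≫ (𝟙 _ - t.s) := by
    rw [Preadditive.comp_sub, he, Category.comp_id, sub_zero]
  obtain ⟨g₀, hg₀⟩ : ∃ g₀ : A ⟶ t.X 0, g₀ = γ₀ ≫ cFold (t.X 0) := ⟨_, rfl⟩
  have h1 : γ₀ ≫ t.xx = (γ₀ ≫ cR (t.X 0) ≫ t.xx) ≫ (𝟙 _ - t.s) + g₀ ≫ t.ι 0 := by
    have h := cR_comp_one_sub_cSh (t.X 0)
    calc γ₀ ≫ t.xx = γ₀ ≫ (cR (t.X 0) ≫ (𝟙 _ - cSh (t.X 0)) +
          cFold (t.X 0) ≫ Sigma.ι (fun _ : ℕ => t.X 0) 0) ≫ t.xx := by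
            rw [h, Category.id_comp]
      _ = _ := by
        rw [Preadditive.add_comp, Preadditive.comp_add, Category.assoc, Category.assoc,
          one_sub_cSh_xx, ι_xx, xs_zero, Category.id_comp, hg₀]
        simp only [Category.assoc]
  have h2 : g₀ ≫ t.ι 0 ∈ t.N A := by
    have h3 : g₀ ≫ t.ι 0 = f - ((γ₀ ≫ cR (t.X 0) ≫ t.xx) ≫ (𝟙 _ - t.s) + e ≫ (𝟙 _ - t.s)) := by
      rw [hfe, h1, ← he']
      abel
    rw [h3]
    exact sub_mem hf (add_mem (t.comp_one_sub_s_mem _) (t.comp_one_sub_s_mem _))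
  have h3 : g₀ ≫ t.x 0 = 0 := t.N3 hA 0 g₀ h2
  have h4 : g₀ ≫ t.ι 0 = (g₀ ≫ t.ι 0) ≫ (𝟙 _ - t.s) := by
    have h5 : (g₀ ≫ t.ι 0) ≫ t.s = 0 := by
      rw [Category.assoc, t.hs, ← Category.assoc, h3, zero_comp]
    rw [Preadditive.comp_sub, Category.comp_id, h5, sub_zero]
  refine ⟨γ₀ ≫ cR (t.X 0) ≫ t.xx + e + g₀ ≫ t.ι 0, ?_⟩
  rw [Preadditive.add_comp, Preadditive.add_comp, ← h4, ← he', hfe, h1]
  abel

/-- Claim A: `1 - s` is injective on maps from objects of `S`. -/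
theorem eq_zero_of_comp_one_sub_s {A : D} (hA : t.S A) (f : A ⟶ t.W)
    (hf : f ≫ (𝟙 _ - t.s) = 0) : f = 0 := by
  obtain ⟨γ₀, e, hfe, he⟩ := t.normalForm hA f
  set γ₁ : A ⟶ ∐ fun _ : ℕ => t.X 0 := γ₀ ≫ (𝟙 _ - cSh (t.X 0)) with hγ₁
  -- `e = - γ₁ ≫ xx`
  have h1 : γ₁ ≫ t.xx + e = 0 := by
    have : f ≫ (𝟙 _ - t.s) = γ₁ ≫ t.xx + e := by
      rw [hfe, Preadditive.add_comp, Category.assoc, ← one_sub_cSh_xx, Preadditive.comp_sub e,
        he, Category.comp_id, sub_zero, hγ₁, Category.assoc]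
    rw [← this, hf]
  have he' : e = - (γ₁ ≫ t.xx) := by
    rw [eq_neg_iff_add_eq_zero, add_comm]; exact h1
  have h2 : (γ₁ ≫ cSh (t.X 0)) ≫ t.xx = 0 := by
    rw [Category.assoc, cSh_xx, ← Category.assoc]
    have : γ₁ ≫ t.xx = - e := by rw [he', neg_neg]
    rw [this, Preadditive.neg_comp, he, neg_zero]
  -- apply P2 to the diagonal map `xx`
  have h3 : (γ₁ ≫ cSh (t.X 0)) ≫ Limits.Sigma.map (fun n => t.xs n) = 0 := by
    have : t.xx = Limits.Sigma.map (fun n => t.xs n) ≫ t.fromSigma := by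
      rw [t.map_fromSigma]; rfl
    rw [this, ← Category.assoc] at h2
    have h4 := congrArg (· ≫ t.toSigma) h2
    simp only [Category.assoc, zero_comp] at h4
    have h5 : t.fromSigma ≫ t.toSigma = 𝟙 _ := by
      apply Sigma.hom_ext
      intro n
      simp [fromSigma]
    rw [h5, Category.comp_id] at h4
    rw [Category.assoc]
    exact h4
  obtain ⟨A', hA', ξ, γ', hξ, hγ'⟩ := t.P2 (fun _ => t.X 0) t.X (fun n => t.xs n) hA _ h3
  have hξk : ∀ n k, 1 ≤ k → ξ n ≫ t.xs k = 0 := fun n k hk =>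
    t.comp_xs_eq_zero (hA' n) (ξ n) n (hξ n) k hk
  -- `γ₀ = γ₁ ≫ cR`
  have h4 : γ₀ = γ₁ ≫ cR (t.X 0) := by
    rw [hγ₁, Category.assoc, one_sub_cSh_comp_cR, Category.comp_id]
  have h5 : f = (γ₁ ≫ cSh (t.X 0)) ≫ cR (t.X 0) ≫ t.xx := by
    rw [hfe, he', h4, Category.assoc γ₁ (cSh _), ← Category.assoc (cSh _), cSh_comp_cR,
      Preadditive.sub_comp, Category.id_comp, Preadditive.comp_sub, Category.assoc]
    abel
  have h6 : Limits.Sigma.map ξ ≫ cR (t.X 0) ≫ t.xx = - (Sigma.desc ξ ≫ t.ι 0) := by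
    apply Sigma.hom_ext
    intro n
    rw [Sigma.ι_map_assoc, ι_cR_assoc, Preadditive.neg_comp, Preadditive.comp_neg,
      Preadditive.comp_neg, Sigma.ι_desc_assoc, Preadditive.sum_comp, Preadditive.comp_sum]
    congr 1
    rcases Nat.eq_zero_or_pos n with rfl | hn
    · have : ξ 0 = 0 := by simpa using hξ 0
      rw [this, zero_comp]
      simp
    · rw [Finset.sum_eq_single 0]
      · rw [ι_xx, xs_zero, Category.id_comp]
      · intro k _ hk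
        rw [ι_xx, ← Category.assoc, hξk n k (Nat.one_le_iff_ne_zero.mpr hk), zero_comp]
      · intro h
        exact absurd (Finset.mem_range.mpr hn) h
  have h7 : f = - ((γ' ≫ Sigma.desc ξ) ≫ t.ι 0) := by
    rw [h5, hγ', Category.assoc, h6, Preadditive.comp_neg, Category.assoc]
  obtain ⟨g, hg⟩ : ∃ g : A ⟶ t.X 0, g = γ' ≫ Sigma.desc ξ := ⟨_, rfl⟩
  rw [← hg] at h7
  have h8 : g = 0 := by
    have h9 : (g ≫ t.ι 0) ≫ (𝟙 _ - t.s) = 0 := by
      rw [h7, Preadditive.neg_comp, neg_eq_zero] at hf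
      exact hf
    have h10 : (g ≫ t.ι 0) ≫ (𝟙 _ - t.s) ≫ t.p0 = g := by
      rw [Preadditive.sub_comp, Category.id_comp, Preadditive.comp_sub, Category.assoc,
        ι_p0_zero, Category.comp_id, Category.assoc, ← Category.assoc (t.ι 0), t.hs,
        Category.assoc, ι_p0_succ, comp_zero, comp_zero, sub_zero]
    rw [← h10, ← Category.assoc, h9, zero_comp]
  rw [h7, h8, zero_comp, neg_zero]

end TData

end Groth.Agent.Lib.Helper2.Brown
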