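import Groth.Agent.Lib.Helper2.Brown.Tower
import Groth.Agent.Lib.Helper2.Brown.TheoremT
import Mathlib.CategoryTheory.Adjunction.Additive

/-!
# Perfect generation and the levels of the tower
-/

set_option autoImplicit false

namespace Groth.Agent.Lib.Helper2.Brown

open CategoryTheory CategoryTheory.Limits CategoryTheory.Pretriangulated Opposite

universe v u

variable {D : Type u} [Category.{v} D] [Preadditive D] [HasZeroObject D] [HasShift D ℤ]
  [∀ n : ℤ, (shiftFunctor D n).Additive] [Pretriangulated D]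
  [HasCoproducts.{v} D] [HasColimitsOfShape (Discrete ℕ) D]

/-- The perfectness condition on a family of objects: maps to countable coproducts factor
through diagonal maps. -/
def Perfect {ι : Type v} (E : ι → D) : Prop :=
  ∀ (X : ℕ → D) (i : ι) (α : E i ⟶ ∐ X), ∃ (j : ℕ → ι) (β : ∀ n, E (j n) ⟶ X n)
    (γ : E i ⟶ ∐ (fun n => E (j n))), α = γ ≫ Limits.Sigma.map β

variable {ι : Type v} {E : ι → D}

/-- `P1` for coproducts of members of a perfect family. -/
lemma perfect_P1 (hE : Perfect E) (B : ℕ → D) {A : D} (hA : CoprodOf E A) (f : A ⟶ ∐ B) :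
    ∃ (A' : ℕ → D) (_ : ∀ n, CoprodOf E (A' n)) (β : ∀ n, A' n ⟶ B n) (γ : A ⟶ ∐ A'),
      f = γ ≫ Limits.Sigma.map β := by
  obtain ⟨κ, Bk, j, hc, p, e'⟩ := hA
  have e : ∀ k, Bk k ≅ E (p k) := fun k => (e' k).some
  have hk : ∀ k, ∃ (jj : ℕ → ι) (β' : ∀ n, E (jj n) ⟶ B n)
      (γ' : E (p k) ⟶ ∐ (fun n => E (jj n))),
      (e k).inv ≫ j k ≫ f = γ' ≫ Limits.Sigma.map β' := fun k => hE B (p k) _
  choose jj β' γ' hγ' using hk
  refine ⟨fun n => ∐ (fun k : κ => E (jj k n)), fun n => coprodOf_sigma E (fun k => jj k n),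
    fun n => Sigma.desc (fun k => β' k n),
    Cofan.IsColimit.desc hc (fun k => (e k).hom ≫ γ' k ≫
      Limits.Sigma.map (fun n => Sigma.ι (fun k : κ => E (jj k n)) k)), ?_⟩
  apply Cofan.IsColimit.hom_ext hc
  intro k
  change j k ≫ f = j k ≫ _ ≫ _
  have h1 : j k ≫ Cofan.IsColimit.desc hc (fun k => (e k).hom ≫ γ' k ≫
      Limits.Sigma.map (fun n => Sigma.ι (fun k : κ => E (jj k n)) k)) = _ :=
    Cofan.IsColimit.fac hc _ k
  rw [← Category.assoc, h1, Category.assoc, Category.assoc, Sigma.map_comp_map]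
  have h2 : Limits.Sigma.map (fun n => Sigma.ι (fun k : κ => E (jj k n)) k ≫
      Sigma.desc (fun k => β' k n)) = Limits.Sigma.map (β' k) := by
    congr 1
    funext n
    rw [Sigma.ι_desc]
  rw [h2, ← hγ' k, Iso.hom_inv_id_assoc]

/-- `P2` for coproducts of members of a perfect family. -/
lemma perfect_P2 (hE : Perfect E) (A₁ B : ℕ → D) (b : ∀ n, A₁ n ⟶ B n) {A : D}
    (hA : CoprodOf E A) (γ : A ⟶ ∐ A₁) (hγ : γ ≫ Limits.Sigma.map b = 0) :
    ∃ (A' : ℕ → D) (_ : ∀ n, CoprodOf E (A' n)) (ξ : ∀ n, A' n ⟶ A₁ n) (γ' : A ⟶ ∐ A'),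
      (∀ n, ξ n ≫ b n = 0) ∧ γ = γ' ≫ Limits.Sigma.map ξ := by
  choose Z z c hT using fun n => distinguished_cocone_triangle₁ (b n)
  have hdist := coproductTriangle_distinguished (fun n => Triangle.mk (z n) (b n) (c n)) hT
  obtain ⟨γ'', hγ''⟩ : ∃ γ'' : A ⟶ ∐ Z, γ = γ'' ≫ Limits.Sigma.map z :=
    Triangle.coyoneda_exact₂ _ hdist γ hγ
  obtain ⟨A', hA', ζ, γ', hζ⟩ := perfect_P1 hE Z hA γ''
  refine ⟨A', hA', fun n => ζ n ≫ z n, γ', fun n => ?_, ?_⟩
  · have h0 : z n ≫ b n = 0 := comp_distTriang_mor_zero₁₂ _ (hT n)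
    rw [Category.assoc, h0, comp_zero]
  · rw [hγ'', hζ, Category.assoc, Sigma.map_comp_map]

/-- the family of all shifts of the members of a family -/
def shiftedFamily (E : ι → D) : ι × ℤ → D := fun p => (shiftFunctor D p.2).obj (E p.1)

variable (E) in
/-- A "level": a coproduct preserving functor with a left adjoint preserving coproducts of
shifts of members of `E`. -/
structure Level where
  Φ : D ⥤ D
  Ψ : D ⥤ D
  adj : Ψ ⊣ Φ
  Φadd : Φ.Additive
  Ψadd : Ψ.Additive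
  pres : PreservesColimitsOfShape (Discrete ℕ) Φ
  hΨ : ∀ A, CoprodOf E A → CoprodOf (shiftedFamily E) (Ψ.obj A)

namespace Level

variable (L : Level E)

/-- the transpose under the adjunction -/
def tr {A Y : D} (f : A ⟶ L.Φ.obj Y) : L.Ψ.obj A ⟶ Y := (L.adj.homEquiv A Y).symm f

lemma tr_comp_map {A Y Y' : D} (f : A ⟶ L.Φ.obj Y) (g : Y ⟶ Y') :
    L.tr (f ≫ L.Φ.map g) = L.tr f ≫ g :=
  L.adj.homEquiv_naturality_right_symm f g

lemma tr_precomp {A A' Y : D} (a : A' ⟶ A) (f : A ⟶ L.Φ.obj Y) :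
    L.tr (a ≫ f) = L.Ψ.map a ≫ L.tr f :=
  L.adj.homEquiv_naturality_left_symm a f

lemma tr_add {A Y : D} (f g : A ⟶ L.Φ.obj Y) : L.tr (f + g) = L.tr f + L.tr g := by
  have := L.Ψadd
  exact (L.adj.homAddEquiv A Y).symm.map_add f g

lemma tr_zero {A Y : D} : L.tr (0 : A ⟶ L.Φ.obj Y) = 0 := by
  have := L.Ψadd
  exact (L.adj.homAddEquiv A Y).symm.map_zero

lemma tr_sub {A Y : D} (f g : A ⟶ L.Φ.obj Y) : L.tr (f - g) = L.tr f - L.tr g := by
  have := L.Ψadd
  exact (L.adj.homAddEquiv A Y).symm.map_sub f g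

lemma tr_injective {A Y : D} : Function.Injective (L.tr : (A ⟶ L.Φ.obj Y) → _) :=
  (L.adj.homEquiv A Y).symm.injective

lemma tr_surjective {A Y : D} : Function.Surjective (L.tr : (A ⟶ L.Φ.obj Y) → _) :=
  (L.adj.homEquiv A Y).symm.surjective

lemma eq_zero_of_tr_eq_zero {A Y : D} (f : A ⟶ L.Φ.obj Y) (hf : L.tr f = 0) : f = 0 :=
  L.tr_injective (hf.trans L.tr_zero.symm)

end Level

variable (h : CohFun D) (hE : Perfect E) (L : Level E)

/-- the subgroup of maps to the level-`Φ` coproduct of the tower killed by the universal element -/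
def levelN (A : D) : AddSubgroup (A ⟶ L.Φ.obj (TW h (shiftedFamily E))) where
  carrier := {f | h.ev (L.tr f) (TuW h (shiftedFamily E)) = 0}
  zero_mem' := by
    change h.ev (L.tr 0) _ = 0
    rw [L.tr_zero, h.ev_zero]
  add_mem' {f g} hf hg := by
    change h.ev (L.tr (f + g)) _ = 0
    rw [L.tr_add, h.ev_add, hf, hg, add_zero]
  neg_mem' {f} hf := by
    change h.ev (L.tr (-f)) _ = 0
    have : L.tr (-f) = - L.tr f := by
      rw [eq_neg_iff_add_eq_zero, ← L.tr_add, neg_add_cancel, L.tr_zero]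
    rw [this, h.ev_neg, hf, neg_zero]

lemma mem_levelN {A : D} (f : A ⟶ L.Φ.obj (TW h (shiftedFamily E))) :
    f ∈ levelN h L A ↔ h.ev (L.tr f) (TuW h (shiftedFamily E)) = 0 := Iff.rfl

/-- the data for the key lemma at a given level -/
noncomputable def levelTData : TData D :=
  have := L.pres
  have := L.Φadd
  { X := fun n => L.Φ.obj (TX h (shiftedFamily E) n)
    x := fun n => L.Φ.map (Tx h (shiftedFamily E) n)
    W := L.Φ.obj (TW h (shiftedFamily E))
    ι := fun n => L.Φ.map (Sigma.ι (TX h (shiftedFamily E)) n)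
    isColimit := isColimitCofanMkObjOfIsColimit L.Φ _ _ (coproductIsCoproduct _)
    s := L.Φ.map (Ts h (shiftedFamily E))
    hs := fun n => by rw [← Functor.map_comp, ι_Ts, Functor.map_comp]
    S := CoprodOf E
    N := levelN h L
    N1 := fun {A A'} a f hf => by
      rw [mem_levelN] at hf ⊢
      rw [L.tr_precomp, h.ev_comp, hf, map_zero]
    N2 := fun {A} f => by
      rw [mem_levelN, L.tr_sub, L.tr_comp_map, h.ev_sub, h.ev_comp, ev_Ts_TuW, sub_self]
    N3 := fun {A} hA n g hg => by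
      rw [mem_levelN, L.tr_comp_map, h.ev_comp, ev_ι_TuW] at hg
      apply L.eq_zero_of_tr_eq_zero
      rw [L.tr_comp_map]
      exact comp_Tx_eq_zero_of_coprodOf h _ (L.hΨ A hA) n _ hg
    N4 := fun {A} hA n β => by
      obtain ⟨φ', hφ'⟩ := exists_of_coprodOf h _ (L.hΨ A hA)
        (h.ev (L.tr β) (Tu h (shiftedFamily E) n))
      obtain ⟨φ, rfl⟩ := L.tr_surjective φ'
      refine ⟨φ, ?_⟩
      rw [mem_levelN, L.tr_sub, L.tr_comp_map, L.tr_comp_map, h.ev_sub, h.ev_comp, h.ev_comp,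
        ev_ι_TuW, ev_ι_TuW, hφ', sub_self]
    P1 := fun B {A} hA f => perfect_P1 hE B hA f
    P2 := fun A₁ B b {A} hA γ hγ => perfect_P2 hE A₁ B b hA γ hγ }

end Groth.Agent.Lib.Helper2.Brown
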