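import Groth.Agent.Lib.Helper2.Brown.Compact

/-!
# Every object of a compactly generated category is a homotopy colimit of a cellular tower
-/

set_option autoImplicit false

namespace Groth.Agent.Lib.Helper2.Brown

open CategoryTheory CategoryTheory.Limits CategoryTheory.Pretriangulated Opposite

universe v u

variable {D : Type u} [Category.{v} D] [Preadditive D] [HasZeroObject D] [HasShift D ℤ]
  [∀ n : ℤ, (shiftFunctor D n).Additive] [Pretriangulated D]
  [HasCoproducts.{v} D] [HasColimitsOfShape (Discrete ℕ) D]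

variable {ι : Type v} {E : ι → D}

lemma isHocolim_of_iso (h' : CohFun D) {ι' : Type v} (G : ι' → D) (d' : HocolimData h' G)
    {X : D} (w : d'.L ⟶ X) [IsIso w] :
    DerLim.IsHocolim (TX h' G) (Tx h' G) X (fun n => Sigma.ι (TX h' G) n ≫ d'.π ≫ w) := by
  refine ⟨inv w ≫ d'.δ, ?_⟩
  have h1 : Sigma.desc (fun n => Sigma.ι (TX h' G) n ≫ d'.π ≫ w) = d'.π ≫ w := by
    apply Sigma.hom_ext
    intro n
    rw [Sigma.ι_desc]
  rw [h1]
  refine isomorphic_distinguished _ d'.dist _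
    (Triangle.isoMk _ _ (Iso.refl _) (Iso.refl _) (asIso w).symm ?_ ?_ ?_)
  · change (𝟙 _ - Ts h' G) ≫ 𝟙 _ = 𝟙 _ ≫ (𝟙 _ - Ts h' G)
    rw [Category.comp_id, Category.id_comp]
  · change (d'.π ≫ w) ≫ inv w = 𝟙 _ ≫ d'.π
    rw [Category.assoc, IsIso.hom_inv_id, Category.comp_id, Category.id_comp]
  · change (inv w ≫ d'.δ) ≫ (shiftFunctor D (1 : ℤ)).map (𝟙 _) = inv w ≫ d'.δ
    rw [CategoryTheory.Functor.map_id, Category.comp_id]

/-- the doubly shifted cells are singly shifted cells -/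
noncomputable def cellIso {κ : Type v} (a : κ → (ι × ℤ) × ℤ) :
    (∐ fun k => shiftedFamily (shiftedFamily E) (a k)) ≅
      ∐ fun k => (shiftFunctor D ((a k).1.2 + (a k).2)).obj (E (a k).1.1) :=
  Sigma.mapIso (fun k => ((shiftFunctorAdd D (a k).1.2 (a k).2).app (E (a k).1.1)).symm)

/-- the cellular presentation of an arbitrary object in a compactly generated category -/
theorem exists_cellular_tower (hc : ∀ i, CohDer.IsCompactObject (E i))
    (hg : CohDer.Generates E) (X : D) :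
    ∃ (K : ℕ → D) (f : ∀ n, K n ⟶ K (n + 1)) (i : ∀ n, K n ⟶ X),
      DerLim.IsHocolim K f X i ∧
      (∃ (κ : Type v) (a : κ → ι) (m : κ → ℤ),
        Nonempty (K 0 ≅ ∐ (fun k => (shiftFunctor D (m k)).obj (E (a k))))) ∧
      ∀ n, ∃ (κ : Type v) (a : κ → ι) (m : κ → ℤ)
        (y : (∐ fun k => (shiftFunctor D (m k)).obj (E (a k))) ⟶ K n)
        (z : K (n + 1) ⟶ (shiftFunctor D (1 : ℤ)).obj
          (∐ fun k => (shiftFunctor D (m k)).obj (E (a k)))),
        Triangle.mk y (f n) z ∈ distTriang D := by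
  have hE : Perfect (shiftedFamily E) :=
    perfect_of_compact (fun p => CompactEnv.isCompactObject_shift (hc p.1) p.2)
  have hgen1 := exists_ne_zero_of_generates hg
  obtain ⟨d'⟩ := nonempty_hocolimData (yonedaCohFun X) (shiftedFamily (shiftedFamily E))
  have := isIso_w hE hgen1 d'
  refine ⟨TX (yonedaCohFun X) (shiftedFamily (shiftedFamily E)),
    Tx (yonedaCohFun X) (shiftedFamily (shiftedFamily E)),
    fun n => Sigma.ι _ n ≫ d'.π ≫ d'.w, isHocolim_of_iso _ _ d' d'.w, ?_, ?_⟩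
  · obtain ⟨κ, a, ⟨e⟩⟩ := TX_zero_cell (yonedaCohFun X) (shiftedFamily (shiftedFamily E))
    exact ⟨κ, fun k => (a k).1.1, fun k => (a k).1.2 + (a k).2, ⟨e ≪≫ cellIso a⟩⟩
  · intro n
    obtain ⟨κ, a, y, z, hT⟩ :=
      TX_succ_cell (yonedaCohFun X) (shiftedFamily (shiftedFamily E)) n
    refine ⟨κ, fun k => (a k).1.1, fun k => (a k).1.2 + (a k).2, (cellIso a).inv ≫ y,
      z ≫ (shiftFunctor D (1 : ℤ)).map (cellIso a).hom, ?_⟩
    refine isomorphic_distinguished _ hT _
      (Triangle.isoMk _ _ (cellIso a).symm (Iso.refl _) (Iso.refl _) ?_ ?_ ?_)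
    · change ((cellIso a).inv ≫ y) ≫ 𝟙 _ = (cellIso a).inv ≫ y
      rw [Category.comp_id]
    · change Tx _ _ n ≫ 𝟙 _ = 𝟙 _ ≫ Tx _ _ n
      rw [Category.comp_id, Category.id_comp]
    · change (z ≫ (shiftFunctor D (1 : ℤ)).map (cellIso a).hom) ≫
        (shiftFunctor D (1 : ℤ)).map (cellIso a).inv = 𝟙 _ ≫ z
      rw [Category.assoc, ← Functor.map_comp, Iso.hom_inv_id, CategoryTheory.Functor.map_id,
        Category.comp_id, Category.id_comp]

end Groth.Agent.Lib.Helper2.Brown
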