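import Groth.Agent.Lib.Helper2.Brown.Level

/-!
# Brown representability for perfectly generated triangulated categories
-/

set_option autoImplicit false

namespace Groth.Agent.Lib.Helper2.Brown

open CategoryTheory CategoryTheory.Limits CategoryTheory.Pretriangulated Opposite

universe v u

variable {D : Type u} [Category.{v} D] [Preadditive D] [HasZeroObject D] [HasShift D ℤ]
  [∀ n : ℤ, (shiftFunctor D n).Additive] [Pretriangulated D]
  [HasCoproducts.{v} D] [HasColimitsOfShape (Discrete ℕ) D]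

variable {ι : Type v} {E : ι → D}

section CoprodOf

lemma coprodOf_of_iso {ι' : Type v} {G : ι' → D} {A A' : D} (e : A ≅ A')
    (hA : CoprodOf G A) : CoprodOf G A' := by
  obtain ⟨κ, B, j, hc, p, i⟩ := hA
  refine ⟨κ, B, fun k => j k ≫ e.hom, ?_, p, i⟩
  exact IsColimit.ofIsoColimit hc (Cofan.ext e (fun k => rfl))

lemma coprodOf_single {ι' : Type v} (G : ι' → D) (p : ι') : CoprodOf G (G p) := by
  refine ⟨PUnit, fun _ => G p, fun _ => 𝟙 _, ?_, fun _ => p, fun _ => ⟨Iso.refl _⟩⟩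
  exact Cofan.IsColimit.mk _ (fun s => s.inj PUnit.unit)
    (fun s j => by
      change 𝟙 _ ≫ _ = _
      rw [Category.id_comp])
    (fun s m hm => by
      have := hm PUnit.unit
      change 𝟙 _ ≫ _ = _ at this
      rw [Category.id_comp] at this
      exact this)

lemma coprodOf_shiftedFamily {A : D} (hA : CoprodOf E A) : CoprodOf (shiftedFamily E) A := by
  obtain ⟨κ, B, j, hc, p, e⟩ := hA
  refine ⟨κ, B, j, hc, fun k => (p k, 0), fun k => ?_⟩
  obtain ⟨e⟩ := e k
  exact ⟨e ≪≫ ((shiftFunctorZero D ℤ).app _).symm⟩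

lemma coprodOf_shiftedFamily_shift {A : D} (m : ℤ) (hA : CoprodOf (shiftedFamily E) A) :
    CoprodOf (shiftedFamily E) ((shiftFunctor D m).obj A) := by
  obtain ⟨κ, B, j, hc, p, e⟩ := hA
  refine ⟨κ, fun k => (shiftFunctor D m).obj (B k), fun k => (shiftFunctor D m).map (j k),
    isColimitCofanMkObjOfIsColimit (shiftFunctor D m) _ _ hc,
    fun k => ((p k).1, (p k).2 + m), fun k => ?_⟩
  obtain ⟨e⟩ := e k
  exact ⟨(shiftFunctor D m).mapIso e ≪≫ ((shiftFunctorAdd D (p k).2 m).app _).symm⟩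

end CoprodOf

section Levels

variable (E) in
/-- the level given by a shift -/
noncomputable def shiftLevel (a b : ℤ) (hab : a + b = 0) : Level E where
  Φ := shiftFunctor D a
  Ψ := shiftFunctor D b
  adj := (shiftEquiv' D a b hab).symm.toAdjunction
  Φadd := inferInstance
  Ψadd := inferInstance
  pres := inferInstance
  hΨ _ hA := coprodOf_shiftedFamily_shift b (coprodOf_shiftedFamily hA)

variable (E) in
/-- the trivial level -/
noncomputable def idLevel : Level E where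
  Φ := 𝟭 D
  Ψ := 𝟭 D
  adj := Adjunction.id
  Φadd := inferInstance
  Ψadd := inferInstance
  pres := inferInstance
  hΨ _ hA := coprodOf_shiftedFamily hA

lemma idLevel_tr {A Y : D} (f : A ⟶ Y) : (idLevel E).tr (Y := Y) f = f := by
  change (Adjunction.id.homEquiv A Y).symm f = f
  rw [Adjunction.homEquiv_counit]
  simp

/-- the next level -/
noncomputable def Level.succ (L : Level E) : Level E where
  Φ := shiftFunctor D (1 : ℤ) ⋙ L.Φ
  Ψ := L.Ψ ⋙ shiftFunctor D (-1 : ℤ)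
  adj := L.adj.comp (shiftEquiv' D (1 : ℤ) (-1) (by simp)).symm.toAdjunction
  Φadd := by have := L.Φadd; infer_instance
  Ψadd := by have := L.Ψadd; infer_instance
  pres := by have := L.pres; infer_instance
  hΨ A hA := coprodOf_shiftedFamily_shift (-1) (L.hΨ A hA)

end Levels

section TheoremR

variable (h : CohFun D) (hE : Perfect E) (L : Level E) (d : HocolimData h (shiftedFamily E))

include hE in
lemma eq_zero_of_ev_tr_eq_zero {A : D} (hA : CoprodOf E A) (α : A ⟶ L.Φ.obj d.L)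
    (hα : h.ev (L.tr α) d.u = 0) : α = 0 := by
  have := L.Φadd
  have h31 : d.δ ≫ (shiftFunctor D (1 : ℤ)).map (𝟙 _ - Ts h (shiftedFamily E)) = 0 :=
    comp_distTriang_mor_zero₃₁ _ d.dist
  have h12 : (𝟙 _ - Ts h (shiftedFamily E)) ≫ d.π = 0 :=
    comp_distTriang_mor_zero₁₂ _ d.dist
  have h1 : α ≫ L.Φ.map d.δ = 0 := by
    have hz : (α ≫ L.Φ.map d.δ) ≫
        (𝟙 _ - L.Φ.map ((shiftFunctor D (1 : ℤ)).map (Ts h (shiftedFamily E)))) = 0 := by
      have : (𝟙 (L.Φ.obj ((shiftFunctor D (1 : ℤ)).obj (TW h (shiftedFamily E)))) -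
          L.Φ.map ((shiftFunctor D (1 : ℤ)).map (Ts h (shiftedFamily E)))) =
          L.Φ.map ((shiftFunctor D (1 : ℤ)).map (𝟙 _ - Ts h (shiftedFamily E))) := by
        rw [Functor.map_sub, Functor.map_sub, CategoryTheory.Functor.map_id,
          CategoryTheory.Functor.map_id]
      rw [this, Category.assoc, ← Functor.map_comp, h31, Functor.map_zero, comp_zero]
    exact (levelTData h hE L.succ).eq_zero_of_comp_one_sub_s hA _ hz
  have h2 : L.tr α ≫ d.δ = 0 := by rw [← L.tr_comp_map, h1, L.tr_zero]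
  obtain ⟨g', hg'⟩ : ∃ g' : L.Ψ.obj A ⟶ TW h (shiftedFamily E), L.tr α = g' ≫ d.π :=
    Triangle.coyoneda_exact₃ _ d.dist (L.tr α) h2
  obtain ⟨g, rfl⟩ := L.tr_surjective g'
  have h3 : g ∈ levelN h L A := by
    rw [mem_levelN, ← d.hu, ← h.ev_comp, ← hg', hα]
  obtain ⟨g₂, hg₂⟩ : ∃ g₂ : A ⟶ L.Φ.obj (TW h (shiftedFamily E)),
      g = g₂ ≫ (𝟙 (L.Φ.obj (TW h (shiftedFamily E))) - L.Φ.map (Ts h (shiftedFamily E))) :=
    (levelTData h hE L).exists_of_mem_N hA g h3
  have h4 : α = g ≫ L.Φ.map d.π := by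
    apply L.tr_injective
    rw [L.tr_comp_map]
    exact hg'
  have h5 : (𝟙 (L.Φ.obj (TW h (shiftedFamily E))) - L.Φ.map (Ts h (shiftedFamily E))) =
      L.Φ.map (𝟙 _ - Ts h (shiftedFamily E)) := by
    rw [Functor.map_sub, CategoryTheory.Functor.map_id]
  rw [h4, hg₂, h5, Category.assoc, ← Functor.map_comp, h12, Functor.map_zero, comp_zero]

include hE in
/-- Theorem R: at every level, the universal element induces a bijection on maps out of
coproducts of members of `E`. -/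
theorem bijective_ev_tr {A : D} (hA : CoprodOf E A) :
    Function.Bijective (fun α : A ⟶ L.Φ.obj d.L => h.ev (L.tr α) d.u) := by
  constructor
  · intro α α' hαα'
    have h0 : h.ev (L.tr (α - α')) d.u = 0 := by
      rw [L.tr_sub, h.ev_sub]
      exact sub_eq_zero.mpr hαα'
    exact sub_eq_zero.mp (eq_zero_of_ev_tr_eq_zero h hE L d hA _ h0)
  · intro a
    obtain ⟨f, hf⟩ := exists_of_coprodOf h _ (L.hΨ A hA) a
    obtain ⟨α, hα⟩ := L.tr_surjective (f ≫ Sigma.ι (TX h (shiftedFamily E)) 0 ≫ d.π)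
    refine ⟨α, ?_⟩
    change h.ev (L.tr α) d.u = a
    rw [hα, h.ev_comp, d.ev_ι_π, hf]

include hE in
/-- maps out of shifts of coproducts of members of `E` -/
theorem bijective_ev_shift {A : D} (hA : CoprodOf E A) (b : ℤ) :
    Function.Bijective (fun f : (shiftFunctor D b).obj A ⟶ d.L => h.ev f d.u) := by
  have hb := bijective_ev_tr h hE (shiftLevel E (-b) b (by simp)) d hA
  exact (Function.Bijective.of_comp_iff (fun f : (shiftFunctor D b).obj A ⟶ d.L => h.ev f d.u)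
    ⟨(shiftLevel E (-b) b (by simp)).tr_injective,
      (shiftLevel E (-b) b (by simp)).tr_surjective⟩).1 hb

end TheoremR

section Bij

variable (h : CohFun D) {X : D} (u : h.G X)

/-- the element `u` induces a bijection at `Z` -/
def Bij (Z : D) : Prop := Function.Bijective (fun f : Z ⟶ X => h.ev f u)

variable {h u}

lemma Bij.ext {Z : D} (hZ : Bij h u Z) (f g : Z ⟶ X) (hfg : h.ev f u = h.ev g u) : f = g :=
  hZ.1 hfg

lemma Bij.eq_zero {Z : D} (hZ : Bij h u Z) (f : Z ⟶ X) (hf : h.ev f u = 0) : f = 0 :=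
  hZ.ext f 0 (by rw [hf, h.ev_zero])

lemma Bij.exists {Z : D} (hZ : Bij h u Z) (a : h.G Z) : ∃ f : Z ⟶ X, h.ev f u = a := hZ.2 a

lemma bij_of_iso {Z Z' : D} (e : Z ≅ Z') (hZ : Bij h u Z) : Bij h u Z' := by
  constructor
  · intro f g hfg
    change h.ev f u = h.ev g u at hfg
    have : e.hom ≫ f = e.hom ≫ g := hZ.ext _ _ (by rw [h.ev_comp, h.ev_comp, hfg])
    exact (cancel_epi e.hom).1 this
  · intro a
    obtain ⟨f, hf⟩ := hZ.exists (h.ev e.hom a)
    refine ⟨e.inv ≫ f, ?_⟩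
    change h.ev (e.inv ≫ f) u = a
    rw [h.ev_comp, hf, ← h.ev_comp, e.inv_hom_id, h.ev_id]

lemma bij_cone (T : Triangle D) (hT : T ∈ distTriang D) (h₁ : Bij h u T.obj₁)
    (h₂ : Bij h u T.obj₂) (h₁' : Bij h u ((shiftFunctor D (1 : ℤ)).obj T.obj₁))
    (h₂' : Bij h u ((shiftFunctor D (1 : ℤ)).obj T.obj₂)) : Bij h u T.obj₃ := by
  have hrot := rot_of_distTriang _ hT
  have hrot2 := rot_of_distTriang _ hrot
  constructor
  · suffices H : ∀ c : T.obj₃ ⟶ X, h.ev c u = 0 → c = 0 by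
      intro c c' hcc'
      change h.ev c u = h.ev c' u at hcc'
      have : h.ev (c - c') u = 0 := by rw [h.ev_sub]; exact sub_eq_zero.mpr hcc'
      exact sub_eq_zero.mp (H _ this)
    intro c hc
    have h1 : T.mor₂ ≫ c = 0 := h₂.eq_zero _ (by rw [h.ev_comp, hc, map_zero])
    obtain ⟨a', ha'⟩ : ∃ a' : (shiftFunctor D (1 : ℤ)).obj T.obj₁ ⟶ X, c = T.mor₃ ≫ a' :=
      Triangle.yoneda_exact₂ _ hrot c h1
    have h2 : h.ev T.mor₃ (h.ev a' u) = 0 := by rw [← h.ev_comp, ← ha', hc]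
    obtain ⟨b, hb⟩ : ∃ b : h.G ((shiftFunctor D (1 : ℤ)).obj T.obj₂),
        h.ev (-(shiftFunctor D (1 : ℤ)).map T.mor₁) b = h.ev a' u :=
      h.exact' _ hrot2 (h.ev a' u) h2
    obtain ⟨b', rfl⟩ := h₂'.exists b
    have h3 : a' = (-(shiftFunctor D (1 : ℤ)).map T.mor₁) ≫ b' :=
      h₁'.ext _ _ (by rw [h.ev_comp]; exact hb.symm)
    rw [ha', h3, ← Category.assoc, Preadditive.comp_neg, comp_distTriang_mor_zero₃₁ _ hT,
      neg_zero, zero_comp]
  · intro γ
    obtain ⟨b, hb⟩ := h₂.exists (h.ev T.mor₂ γ)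
    have h1 : T.mor₁ ≫ b = 0 := h₁.eq_zero _ (by
      rw [h.ev_comp, hb, ← h.ev_comp, comp_distTriang_mor_zero₁₂ _ hT, h.ev_zero])
    obtain ⟨c₀, hc₀⟩ : ∃ c₀ : T.obj₃ ⟶ X, b = T.mor₂ ≫ c₀ := Triangle.yoneda_exact₂ _ hT b h1
    have h2 : h.ev T.mor₂ (γ - h.ev c₀ u) = 0 := by
      rw [map_sub, ← h.ev_comp, ← hc₀, hb, sub_self]
    obtain ⟨a, ha⟩ : ∃ a : h.G ((shiftFunctor D (1 : ℤ)).obj T.obj₁),
        h.ev T.mor₃ a = γ - h.ev c₀ u := h.exact' _ hrot _ h2
    obtain ⟨a', rfl⟩ := h₁'.exists a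
    refine ⟨c₀ + T.mor₃ ≫ a', ?_⟩
    change h.ev (c₀ + T.mor₃ ≫ a') u = γ
    rw [h.ev_add, h.ev_comp, ha]
    abel

lemma bij_coprod {κ : Type v} {Z : κ → D} {P : D} (g : ∀ k, Z k ⟶ P)
    (hc : IsColimit (Cofan.mk P g)) (hZ : ∀ k, Bij h u (Z k)) : Bij h u P := by
  constructor
  · intro f f' hff'
    change h.ev f u = h.ev f' u at hff'
    apply Cofan.IsColimit.hom_ext hc
    intro k
    change g k ≫ f = g k ≫ f'
    apply (hZ k).ext
    rw [h.ev_comp, h.ev_comp, hff']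
  · intro γ
    choose f hf using fun k => (hZ k).exists (h.ev (g k) γ)
    refine ⟨Cofan.IsColimit.desc hc f, ?_⟩
    apply h.prod_ext _ hc
    intro k
    change h.ev (g k) (h.ev _ u) = h.ev (g k) γ
    have : g k ≫ Cofan.IsColimit.desc hc f = f k := Cofan.IsColimit.fac hc f k
    rw [← h.ev_comp, this, hf]

lemma bij_coprodNat {Z : ℕ → D} {P : D} (g : ∀ k, Z k ⟶ P)
    (hc : IsColimit (Cofan.mk P g)) (hZ : ∀ k, Bij h u (Z k)) : Bij h u P := by
  constructor
  · intro f f' hff'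
    change h.ev f u = h.ev f' u at hff'
    apply Cofan.IsColimit.hom_ext hc
    intro k
    change g k ≫ f = g k ≫ f'
    apply (hZ k).ext
    rw [h.ev_comp, h.ev_comp, hff']
  · intro γ
    choose f hf using fun k => (hZ k).exists (h.ev (g k) γ)
    refine ⟨Cofan.IsColimit.desc hc f, ?_⟩
    apply h.prodNat_ext _ hc
    intro k
    change h.ev (g k) (h.ev _ u) = h.ev (g k) γ
    have : g k ≫ Cofan.IsColimit.desc hc f = f k := Cofan.IsColimit.fac hc f k
    rw [← h.ev_comp, this, hf]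

variable (h u) in
/-- the element `u` induces a bijection at all shifts of `Z` -/
def BijAll : ObjectProperty D := fun Z => ∀ k : ℤ, Bij h u ((shiftFunctor D k).obj Z)

lemma bijAll_of_iso {Z Z' : D} (e : Z ≅ Z') (hZ : BijAll h u Z) : BijAll h u Z' :=
  fun k => bij_of_iso ((shiftFunctor D k).mapIso e) (hZ k)

lemma bij_of_bijAll {Z : D} (hZ : BijAll h u Z) : Bij h u Z :=
  bij_of_iso ((shiftFunctorZero D ℤ).app Z) (hZ 0)

lemma bijAll_shift {Z : D} (hZ : BijAll h u Z) (m : ℤ) :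
    BijAll h u ((shiftFunctor D m).obj Z) :=
  fun k => bij_of_iso ((shiftFunctorAdd D m k).app Z) (hZ (m + k))

lemma bijAll_cone (T : Triangle D) (hT : T ∈ distTriang D) (h₁ : BijAll h u T.obj₁)
    (h₂ : BijAll h u T.obj₂) : BijAll h u T.obj₃ := by
  intro k
  have hTk := Triangle.shift_distinguished T hT k
  exact bij_cone _ hTk (h₁ k) (h₂ k) (bijAll_shift h₁ k 1) (bijAll_shift h₂ k 1)

lemma bijAll_coprod {κ : Type v} {Z : κ → D} {P : D} (g : ∀ k, Z k ⟶ P)
    (hc : IsColimit (Cofan.mk P g)) (hZ : ∀ k, BijAll h u (Z k)) : BijAll h u P :=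
  fun m => bij_coprod (fun k => (shiftFunctor D m).map (g k))
    (isColimitCofanMkObjOfIsColimit (shiftFunctor D m) _ _ hc) (fun k => hZ k m)

lemma bijAll_coprodNat {Z : ℕ → D} {P : D} (g : ∀ k, Z k ⟶ P)
    (hc : IsColimit (Cofan.mk P g)) (hZ : ∀ k, BijAll h u (Z k)) : BijAll h u P :=
  fun m => bij_coprodNat (fun k => (shiftFunctor D m).map (g k))
    (isColimitCofanMkObjOfIsColimit (shiftFunctor D m) _ _ hc) (fun k => hZ k m)

section Tower

variable (hgen : ∀ A, CoprodOf E A → BijAll h u A)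

include hgen

lemma bijAll_sigma_shifted {κ : Type v} (a : κ → ι × ℤ) :
    BijAll h u (∐ fun k => shiftedFamily E (a k)) :=
  bijAll_coprod _ (coproductIsCoproduct _)
    (fun k => bijAll_shift (hgen _ (coprodOf_single E (a k).1)) (a k).2)

lemma bijAll_TX (h' : CohFun D) (n : ℕ) : BijAll h u (TX h' (shiftedFamily E) n) := by
  induction n with
  | zero =>
    obtain ⟨κ, a, ⟨e⟩⟩ := TX_zero_cell h' (shiftedFamily E)
    exact bijAll_of_iso e.symm (bijAll_sigma_shifted hgen a)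
  | succ n ih =>
    obtain ⟨κ, a, y, z, hT⟩ := TX_succ_cell h' (shiftedFamily E) n
    exact bijAll_cone _ hT (bijAll_sigma_shifted hgen a) ih

lemma bijAll_TW (h' : CohFun D) : BijAll h u (TW h' (shiftedFamily E)) :=
  bijAll_coprodNat _ (coproductIsCoproduct _) (bijAll_TX hgen h')

lemma bijAll_hocolim (h' : CohFun D) (d' : HocolimData h' (shiftedFamily E)) :
    BijAll h u d'.L :=
  bijAll_cone _ d'.dist (bijAll_TW hgen h') (bijAll_TW hgen h')

end Tower

end Bij

section Main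

variable (hE : Perfect E) (hgen1 : ∀ X : D, ¬ IsZero X → ∃ (i : ι) (f : E i ⟶ X), f ≠ 0)

/-- the comparison map from the homotopy colimit of the tower of `Y` to `Y` -/
def HocolimData.w {Y : D} (d' : HocolimData (yonedaCohFun Y) (shiftedFamily E)) : d'.L ⟶ Y :=
  d'.u

include hE in
lemma bijective_comp_w {Y : D} (d' : HocolimData (yonedaCohFun Y) (shiftedFamily E))
    (L : Level E) {A : D} (hA : CoprodOf E A) :
    Function.Bijective (fun α : A ⟶ L.Φ.obj d'.L => α ≫ L.Φ.map d'.w) := by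
  have hb := bijective_ev_tr (yonedaCohFun Y) hE L d' hA
  have : (fun α : A ⟶ L.Φ.obj d'.L => (yonedaCohFun Y).ev (L.tr α) d'.u) =
      L.tr ∘ (fun α : A ⟶ L.Φ.obj d'.L => α ≫ L.Φ.map d'.w) := by
    funext α
    change _ = L.tr (α ≫ L.Φ.map d'.w)
    rw [L.tr_comp_map]
    rfl
  rw [this] at hb
  exact (Function.Bijective.of_comp_iff' ⟨L.tr_injective, L.tr_surjective⟩ _).1 hb

include hE hgen1 in
lemma isIso_w {Y : D} (d' : HocolimData (yonedaCohFun Y) (shiftedFamily E)) : IsIso d'.w := by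
  obtain ⟨C, p, q, hT⟩ := distinguished_cocone_triangle d'.w
  have hC : IsZero C := by
    by_contra hC
    obtain ⟨i, f, hf⟩ := hgen1 C hC
    apply hf
    have hEi := coprodOf_single E i
    have h1 : f ≫ q = 0 := by
      have hb := bijective_comp_w hE d' (shiftLevel E 1 (-1) (by simp)) hEi
      apply hb.1
      change (f ≫ q) ≫ (shiftFunctor D (1 : ℤ)).map d'.w = 0 ≫ (shiftFunctor D (1 : ℤ)).map d'.w
      have h31 : q ≫ (shiftFunctor D (1 : ℤ)).map d'.w = 0 := comp_distTriang_mor_zero₃₁ _ hT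
      rw [Category.assoc, h31, comp_zero, zero_comp]
    obtain ⟨f', hf'⟩ : ∃ f' : E i ⟶ Y, f = f' ≫ p := Triangle.coyoneda_exact₃ _ hT f h1
    obtain ⟨f'', hf''⟩ : ∃ f'' : E i ⟶ d'.L, f'' ≫ d'.w = f' :=
      (bijective_comp_w hE d' (idLevel E) hEi).2 f'
    have h12 : d'.w ≫ p = 0 := comp_distTriang_mor_zero₁₂ _ hT
    rw [hf', ← hf'', Category.assoc, h12, comp_zero]
  exact (Triangle.isZero₃_iff_isIso₁ _ hT).1 hC

include hE hgen1 in
/-- Brown representability, in elementwise form. -/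
theorem exists_universal (h : CohFun D) :
    ∃ (X : D) (u : h.G X), ∀ Y : D, Function.Bijective (fun f : Y ⟶ X => h.ev f u) := by
  obtain ⟨d⟩ := nonempty_hocolimData h (shiftedFamily E)
  refine ⟨d.L, d.u, fun Y => ?_⟩
  have hgen : ∀ A, CoprodOf E A → BijAll h d.u A :=
    fun A hA k => bijective_ev_shift h hE d hA k
  obtain ⟨d'⟩ := nonempty_hocolimData (yonedaCohFun Y) (shiftedFamily E)
  have := isIso_w hE hgen1 d'
  exact bij_of_bijAll (bijAll_of_iso (asIso d'.w) (bijAll_hocolim hgen _ d'))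

include hE hgen1 in
/-- Brown representability. -/
theorem isRepresentable (h : CohFun D) :
    (h.H ⋙ forget AddCommGrpCat.{v}).IsRepresentable := by
  obtain ⟨X, u, hu⟩ := exists_universal hE hgen1 h
  exact Functor.RepresentableBy.isRepresentable
    { homEquiv := fun {Y} => Equiv.ofBijective _ (hu Y)
      homEquiv_comp := fun {Y Y'} f g => by
        change h.ev (f ≫ g) u = h.ev f (h.ev g u)
        rw [h.ev_comp] }

end Main

end Groth.Agent.Lib.Helper2.Brown
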