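import Groth.Agent.Lib.Helper2.Brown.CohFun
import Groth.Agent.Lib.Helper2.Brown.CoprodTriangle
import Groth.Prelude.Def_DerLim

/-!
# The tower construction in the proof of Brown representability
-/

set_option autoImplicit false

namespace Groth.Agent.Lib.Helper2.Brown

open CategoryTheory CategoryTheory.Limits CategoryTheory.Pretriangulated Opposite

universe v u

variable {D : Type u} [Category.{v} D] [Preadditive D] [HasZeroObject D] [HasShift D ℤ]
  [∀ n : ℤ, (shiftFunctor D n).Additive] [Pretriangulated D]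

/-- Objects which are coproducts of objects isomorphic to members of the family `G`. -/
def CoprodOf {ι' : Type v} (G : ι' → D) : ObjectProperty D := fun A =>
  ∃ (κ : Type v) (B : κ → D) (j : ∀ k, B k ⟶ A) (_ : IsColimit (Cofan.mk A j)) (p : κ → ι'),
    ∀ k, Nonempty (B k ≅ G (p k))

lemma coprodOf_sigma [HasCoproducts.{v} D] {ι' : Type v} (G : ι' → D) {κ : Type v}
    (p : κ → ι') : CoprodOf G (∐ fun k => G (p k)) :=
  ⟨κ, fun k => G (p k), Sigma.ι _, coproductIsCoproduct _, p, fun _ => ⟨Iso.refl _⟩⟩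

variable (h : CohFun D) {ι' : Type v} (G : ι' → D)

/-- a stage of the tower: an object with an element of `H` -/
structure Stage where
  X : D
  u : h.G X

variable [HasCoproducts.{v} D]

/-- the data of one step of the tower -/
structure Step (s : Stage h) where
  X' : D
  x : s.X ⟶ X'
  u' : h.G X'
  hu : h.ev x u' = s.u
  kill : ∀ (p : ι') (f : G p ⟶ s.X), h.ev f s.u = 0 → f ≫ x = 0
  κ : Type v
  a : κ → ι'
  y : (∐ fun k => G (a k)) ⟶ s.X
  z : X' ⟶ (shiftFunctor D (1 : ℤ)).obj (∐ fun k => G (a k))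
  dist : Triangle.mk y x z ∈ distTriang D

lemma nonempty_step (s : Stage h) : Nonempty (Step h G s) := by
  let κ : Type v := Σ p : ι', {f : G p ⟶ s.X // h.ev f s.u = 0}
  let a : κ → ι' := fun k => k.1
  let y : (∐ fun k => G (a k)) ⟶ s.X := Sigma.desc (fun k => k.2.1)
  obtain ⟨X', x, z, hT⟩ := distinguished_cocone_triangle y
  have hy : h.ev y s.u = 0 := by
    apply h.prod_ext (Cofan.mk _ (Sigma.ι fun k => G (a k))) (coproductIsCoproduct _)
    intro k
    change h.ev (Sigma.ι (fun k => G (a k)) k) (h.ev y s.u) =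
      h.ev (Sigma.ι (fun k => G (a k)) k) 0
    rw [← h.ev_comp, Sigma.ι_desc, map_zero]
    exact k.2.2
  obtain ⟨u', hu'⟩ := h.exact' _ hT s.u hy
  refine ⟨⟨X', x, u', hu', ?_, κ, a, y, z, hT⟩⟩
  intro p f hf
  have : f = Sigma.ι (fun k => G (a k)) ⟨p, f, hf⟩ ≫ y := by
    rw [Sigma.ι_desc]
  rw [this, Category.assoc]
  have h0 : y ≫ x = 0 := comp_distTriang_mor_zero₁₂ _ hT
  rw [h0, comp_zero]

/-- a chosen step -/
noncomputable def step (s : Stage h) : Step h G s := (nonempty_step h G s).some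

/-- the initial stage -/
noncomputable def stage0Index : Type v := Σ p : ι', h.G (G p)

lemma exists_u0 : ∃ u : h.G (∐ fun k : stage0Index h G => G k.1),
    ∀ k : stage0Index h G, h.ev (Sigma.ι (fun k : stage0Index h G => G k.1) k) u = k.2 :=
  h.prod_exists (Cofan.mk _ (Sigma.ι fun k : stage0Index h G => G k.1)) (coproductIsCoproduct _)
    (fun k => k.2)

/-- the initial stage -/
noncomputable def stage0 : Stage h :=
  ⟨∐ fun k : stage0Index h G => G k.1, (exists_u0 h G).choose⟩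

/-- the stages of the tower -/
noncomputable def stage : ℕ → Stage h
  | 0 => stage0 h G
  | n + 1 => ⟨(step h G (stage n)).X', (step h G (stage n)).u'⟩

/-- the objects of the tower -/
noncomputable def TX (n : ℕ) : D := (stage h G n).X

/-- the elements of the tower -/
noncomputable def Tu (n : ℕ) : h.G (TX h G n) := (stage h G n).u

/-- the maps of the tower -/
noncomputable def Tx (n : ℕ) : TX h G n ⟶ TX h G (n + 1) := (step h G (stage h G n)).x

lemma ev_Tx (n : ℕ) : h.ev (Tx h G n) (Tu h G (n + 1)) = Tu h G n :=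
  (step h G (stage h G n)).hu

lemma kill_Tx (n : ℕ) (p : ι') (f : G p ⟶ TX h G n) (hf : h.ev f (Tu h G n) = 0) :
    f ≫ Tx h G n = 0 :=
  (step h G (stage h G n)).kill p f hf

lemma exists_of_G (p : ι') (a : h.G (G p)) : ∃ f : G p ⟶ TX h G 0, h.ev f (Tu h G 0) = a :=
  ⟨Sigma.ι (fun k : stage0Index h G => G k.1) ⟨p, a⟩, (exists_u0 h G).choose_spec ⟨p, a⟩⟩

lemma TX_zero_cell : ∃ (κ : Type v) (a : κ → ι'), Nonempty (TX h G 0 ≅ ∐ fun k => G (a k)) :=
  ⟨stage0Index h G, fun k => k.1, ⟨Iso.refl _⟩⟩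

lemma TX_succ_cell (n : ℕ) : ∃ (κ : Type v) (a : κ → ι')
    (y : (∐ fun k => G (a k)) ⟶ TX h G n)
    (z : TX h G (n + 1) ⟶ (shiftFunctor D (1 : ℤ)).obj (∐ fun k => G (a k))),
    Triangle.mk y (Tx h G n) z ∈ distTriang D :=
  ⟨_, _, _, _, (step h G (stage h G n)).dist⟩

/-- T1 for coproducts of members: every element is hit from the bottom of the tower. -/
lemma exists_of_coprodOf {A : D} (hA : CoprodOf G A) (a : h.G A) :
    ∃ f : A ⟶ TX h G 0, h.ev f (Tu h G 0) = a := by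
  obtain ⟨κ, B, j, hc, p, e⟩ := hA
  have hk : ∀ k, ∃ f : B k ⟶ TX h G 0, h.ev f (Tu h G 0) = h.ev (j k) a := by
    intro k
    obtain ⟨e⟩ := e k
    obtain ⟨f', hf'⟩ := exists_of_G h G (p k) (h.ev e.inv (h.ev (j k) a))
    refine ⟨e.hom ≫ f', ?_⟩
    rw [h.ev_comp, hf', ← h.ev_comp, e.hom_inv_id, h.ev_id]
  choose f hf using hk
  refine ⟨Cofan.IsColimit.desc hc f, ?_⟩
  apply h.prod_ext _ hc
  intro k
  change h.ev (j k) _ = h.ev (j k) a
  rw [← h.ev_comp]
  have : j k ≫ Cofan.IsColimit.desc hc f = f k := Cofan.IsColimit.fac hc f k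
  rw [this, hf]

/-- T2 for coproducts of members: killed maps die at the next stage. -/
lemma comp_Tx_eq_zero_of_coprodOf {A : D} (hA : CoprodOf G A) (n : ℕ) (f : A ⟶ TX h G n)
    (hf : h.ev f (Tu h G n) = 0) : f ≫ Tx h G n = 0 := by
  obtain ⟨κ, B, j, hc, p, e⟩ := hA
  apply Cofan.IsColimit.hom_ext hc
  intro k
  change j k ≫ f ≫ Tx h G n = j k ≫ 0
  obtain ⟨e⟩ := e k
  have h1 : (e.inv ≫ j k ≫ f) ≫ Tx h G n = 0 := by
    apply kill_Tx
    rw [h.ev_comp, h.ev_comp, hf, map_zero, map_zero]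
  rw [comp_zero, ← cancel_epi e.inv]
  simpa using h1

variable [HasColimitsOfShape (Discrete ℕ) D]

/-- the coproduct of the tower -/
noncomputable abbrev TW : D := ∐ TX h G

/-- the shift endomorphism of the coproduct of the tower -/
noncomputable abbrev Ts : TW h G ⟶ TW h G := DerLim.shiftMap (TX h G) (Tx h G)

@[reassoc]
lemma ι_Ts (n : ℕ) : Sigma.ι (TX h G) n ≫ Ts h G = Tx h G n ≫ Sigma.ι (TX h G) (n + 1) := by
  simp [DerLim.shiftMap]

lemma exists_uW : ∃ u : h.G (TW h G), ∀ n, h.ev (Sigma.ι (TX h G) n) u = Tu h G n :=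
  h.prodNat_exists (Cofan.mk _ (Sigma.ι (TX h G))) (coproductIsCoproduct _) (Tu h G)

/-- the element of `H` on the coproduct of the tower -/
noncomputable def TuW : h.G (TW h G) := (exists_uW h G).choose

lemma ev_ι_TuW (n : ℕ) : h.ev (Sigma.ι (TX h G) n) (TuW h G) = Tu h G n :=
  (exists_uW h G).choose_spec n

lemma ev_Ts_TuW : h.ev (Ts h G) (TuW h G) = TuW h G := by
  apply h.prodNat_ext (Cofan.mk _ (Sigma.ι (TX h G))) (coproductIsCoproduct _)
  intro n
  change h.ev (Sigma.ι (TX h G) n) _ = h.ev (Sigma.ι (TX h G) n) _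
  rw [← h.ev_comp, ι_Ts, h.ev_comp, ev_ι_TuW, ev_ι_TuW, ev_Tx]

lemma ev_one_sub_Ts_TuW : h.ev (𝟙 _ - Ts h G) (TuW h G) = 0 := by
  rw [h.ev_sub, h.ev_id, ev_Ts_TuW, sub_self]

/-- the data of the homotopy colimit of the tower -/
structure HocolimData where
  L : D
  π : TW h G ⟶ L
  δ : L ⟶ (shiftFunctor D (1 : ℤ)).obj (TW h G)
  dist : Triangle.mk (𝟙 _ - Ts h G) π δ ∈ distTriang D
  u : h.G L
  hu : h.ev π u = TuW h G

lemma nonempty_hocolimData : Nonempty (HocolimData h G) := by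
  obtain ⟨L, π, δ, hT⟩ := distinguished_cocone_triangle (𝟙 _ - Ts h G)
  obtain ⟨u, hu⟩ := h.exact' _ hT (TuW h G) (ev_one_sub_Ts_TuW h G)
  exact ⟨⟨L, π, δ, hT, u, hu⟩⟩

/-- a chosen homotopy colimit of the tower -/
noncomputable def hocolimData : HocolimData h G := (nonempty_hocolimData h G).some

lemma HocolimData.isHocolim (d : HocolimData h G) :
    DerLim.IsHocolim (TX h G) (Tx h G) d.L (fun n => Sigma.ι (TX h G) n ≫ d.π) := by
  refine ⟨d.δ, ?_⟩
  have : Sigma.desc (fun n => Sigma.ι (TX h G) n ≫ d.π) = d.π := by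
    apply Sigma.hom_ext
    intro n
    rw [Sigma.ι_desc]
  rw [this]
  exact d.dist

lemma HocolimData.ev_ι_π (d : HocolimData h G) (n : ℕ) :
    h.ev (Sigma.ι (TX h G) n ≫ d.π) d.u = Tu h G n := by
  rw [h.ev_comp, d.hu, ev_ι_TuW]

end Groth.Agent.Lib.Helper2.Brown
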